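import Cfsg.Agent.Helper22.BG13iDefs
import Cfsg.Agent.Helper22.BG14Defs
import Cfsg.Agent.Helper22.Transitivity
import Cfsg.Agent.Helper1.BG139Defs
import Cfsg.Agent.Helper35.CoprimeSylow

/-!
# Helper33: PIECE KU of CALL S1351A (helper22).
-/

set_option autoImplicit false

namespace Cfsg.Agent.Helper33

open Cfsg Subgroup

universe u

variable {G : Type u} [Group G] [Finite G]

/-- PIECE KU (PURE). -/
theorem bg13i_exists_sylow_moved {K R : Subgroup G} (hsol : Group.IsSolvable ↥K)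
    (hRK : R ≤ normalizer (K : Set G)) (hcop : (Nat.card R).Coprime (Nat.card K))
    (hne : ¬ K ≤ centralizer (R : Set G)) :
    ∃ u : ℕ, u.Prime ∧ ∃ U : Subgroup G, U ≤ K ∧ IsPGroup u U ∧ R ≤ normalizer (U : Set G) ∧
      ¬ U ≤ centralizer (R : Set G) := by
  classical
  by_contra hcon
  push Not at hcon
  apply hne
  have hCK : K ⊓ centralizer (R : Set G) ≤ K := inf_le_left
  have hdvd : Nat.card K ∣ Nat.card ↥(K ⊓ centralizer (R : Set G)) := by
    rw [Nat.dvd_iff_prime_pow_dvd_dvd]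
    intro v k hv hk
    haveI := Fact.mk hv
    obtain ⟨U, hU, hRU⟩ := Cfsg.Agent.Helper35.exists_invariant_sylow hRK hcop (Or.inr hsol) v
    have hUC : U ≤ K ⊓ centralizer (R : Set G) :=
      le_inf hU.1 (hcon v hv U hU.1 (Cfsg.Agent.Helper35.isPGroup_of_mem_sylowSet hU) hRU)
    have h1 : v ^ k ∣ Nat.card U := by
      rw [hU.2]
      exact pow_dvd_pow v ((Nat.Prime.pow_dvd_iff_le_factorization hv Nat.card_pos.ne').mp hk)
    exact h1.trans (Subgroup.card_dvd_of_le hUC)
  have heq : K ⊓ centralizer (R : Set G) = K :=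
    Subgroup.eq_of_le_of_card_ge hCK (Nat.le_of_dvd Nat.card_pos hdvd)
  rw [← heq]
  exact inf_le_right

end Cfsg.Agent.Helper33
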