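import Cfsg.Agent.Helper22.BG13iDefs
import Cfsg.Agent.Helper22.BG14Defs
import Cfsg.Agent.Helper22.Transitivity
import Cfsg.Agent.Helper1.BG139Defs
import Cfsg.Agent.Helper23.BG139D1

/-!
# Helper33: PIECE XM of CALL S1351A (helper22).
-/

set_option autoImplicit false

namespace Cfsg.Agent.Helper33

open Cfsg Subgroup

universe u

variable {G : Type u} [Group G] [Finite G]

/-- PIECE XM (PURE). -/
theorem bg13i_exists_fix (hodd : Odd (Nat.card G)) {p r t : ℕ} (hp : p.Prime) (hr : r.Prime)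
    (ht : t.Prime) (hpt : p ≠ t) (hrt : r ≠ t) (hpr : p ≠ r) {T P R : Subgroup G}
    (hT : IsPGroup t T) (hPc : Nat.card P = p) (hRc : Nat.card R = r)
    (hPT : P ≤ normalizer (T : Set G)) (hRT : R ≤ normalizer (T : Set G))
    (hRP : R ≤ normalizer (P : Set G)) (hfixP : P ⊓ centralizer (R : Set G) = ⊥)
    (hTP : ¬ T ≤ centralizer (P : Set G)) :
    ∃ X : Subgroup G, X ≤ T ⊓ centralizer (R : Set G) ∧ Nat.card X = t := by
  classical
  haveI := Fact.mk ht
  by_cases hTC : T ⊓ centralizer (R : Set G) = ⊥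
  · exfalso
    apply hTP
    haveI : Nontrivial R := (Finite.one_lt_card_iff_nontrivial).mp (by rw [hRc]; exact hr.one_lt)
    obtain ⟨⟨x, hxR⟩, hx1⟩ := exists_ne (1 : R)
    haveI := Fact.mk hr
    have hcentR : ∀ a : G, x * a = a * x → a ∈ centralizer (R : Set G) := by
      intro a ha
      rw [mem_centralizer_iff]
      intro y hy
      obtain ⟨k, hk⟩ := mem_zpowers_of_prime_card (G := R) hRc (g := ⟨x, hxR⟩) (g' := ⟨y, hy⟩) hx1
      have hyk : y = x ^ k := by
        have := congrArg Subtype.val hk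
        simpa using this.symm
      rw [hyk]
      exact ((show Commute x a from ha).zpow_left k).eq
    have hxr : x ^ r = 1 := by
      have h1 : (⟨x, hxR⟩ : R) ^ Nat.card R = 1 := pow_card_eq_one'
      rw [hRc] at h1
      simpa using congrArg Subtype.val h1
    obtain ⟨k, hk⟩ := IsPGroup.iff_card.mp hT
    have hrT : ¬ r ∣ Nat.card T := by
      rw [hk]
      intro h
      exact hrt ((Nat.prime_dvd_prime_iff_eq hr ht).mp (hr.dvd_of_dvd_pow h))
    have hrP : ¬ r ∣ Nat.card P := by
      rw [hPc]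
      intro h
      exact hpr ((Nat.prime_dvd_prime_iff_eq hr hp).mp h).symm
    have hcopTP : (Nat.card T).Coprime (Nat.card P) := by
      rw [hk, hPc]
      exact Nat.Coprime.pow_left _ ((Nat.coprime_primes ht hp).mpr hpt.symm)
    have hfixT : ∀ a ∈ T, x * a = a * x → a = 1 := by
      intro a ha hc
      have : a ∈ T ⊓ centralizer (R : Set G) := ⟨ha, hcentR a hc⟩
      rw [hTC] at this
      exact Subgroup.mem_bot.mp this
    have hfixS : ∀ a ∈ P, x * a = a * x → a = 1 := by
      intro a ha hc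
      have : a ∈ P ⊓ centralizer (R : Set G) := ⟨ha, hcentR a hc⟩
      rw [hfixP] at this
      exact Subgroup.mem_bot.mp this
    exact Cfsg.Agent.Helper23.bg139_frob_cent hodd hr hT.isNilpotent hPT (hRT hxR) (hRP hxR) hxr
      hrT hrP hcopTP hfixT hfixS
  · have hIp : IsPGroup t ↥(T ⊓ centralizer (R : Set G)) := hT.to_le inf_le_left
    obtain ⟨k, hk⟩ := IsPGroup.iff_card.mp hIp
    have hk0 : k ≠ 0 := by
      rintro rfl
      rw [pow_zero] at hk
      exact hTC (Subgroup.card_eq_one.mp hk)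
    have hdvd : t ∣ Nat.card ↥(T ⊓ centralizer (R : Set G)) := by
      rw [hk]; exact dvd_pow_self t hk0
    obtain ⟨z, hz⟩ := exists_prime_orderOf_dvd_card' (G := ↥(T ⊓ centralizer (R : Set G))) t hdvd
    refine ⟨zpowers (z : G), ?_, ?_⟩
    · rw [zpowers_le]
      exact z.2
    · rw [Nat.card_zpowers, Subgroup.orderOf_coe, hz]

end Cfsg.Agent.Helper33
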