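import Cfsg.Prelude.Def_ConjugacyFunctors
import Cfsg.Prelude.Def_Solvable

set_option autoImplicit false

namespace Cfsg.Agent.Helper33

variable {G : Type*} [Group G]

theorem pCore_normal (p : ℕ) : (Cfsg.pCore p G).Normal :=
  Subgroup.sSup_normal _ (fun _ hN => hN.1)

theorem normal_pgroup_le_sylow [Finite G] {p : ℕ} [Fact p.Prime] (N : Subgroup G) [hN : N.Normal]
    (hp : IsPGroup p N) (P : Sylow p G) : N ≤ (P : Subgroup G) := by
  obtain ⟨Q, hQ⟩ := hp.exists_le_sylow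
  obtain ⟨g, hg⟩ := MulAction.exists_smul_eq G Q P
  intro x hx
  have h1 : g⁻¹ * x * g ∈ N := by
    have := hN.conj_mem x hx g⁻¹
    simpa using this
  have h2 : g⁻¹ * x * g ∈ (Q : Subgroup G) := hQ h1
  have h3 : x ∈ ((g • Q : Sylow p G) : Subgroup G) := by
    rw [Sylow.coe_subgroup_smul]
    rw [Subgroup.mem_pointwise_smul_iff_inv_smul_mem]
    simpa [MulAut.smul_def, mul_assoc] using h2
  rwa [hg] at h3

theorem pCore_le_sylow [Finite G] {p : ℕ} [Fact p.Prime] (P : Sylow p G) :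
    Cfsg.pCore p G ≤ (P : Subgroup G) := by
  apply sSup_le
  intro N hN
  haveI := hN.1
  exact normal_pgroup_le_sylow N hN.2 P

theorem mem_map_conj {H : Subgroup G} {g x : G} :
    x ∈ H.map (MulAut.conj g).toMonoidHom ↔ g⁻¹ * x * g ∈ H := by
  constructor
  · rintro ⟨y, hy, rfl⟩
    simpa [mul_assoc] using hy
  · intro h
    exact ⟨g⁻¹ * x * g, h, by simp [mul_assoc]⟩

theorem conj_mem_map_conj {H : Subgroup G} {g y : G} (hy : y ∈ H) :
    g * y * g⁻¹ ∈ H.map (MulAut.conj g).toMonoidHom :=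
  ⟨y, hy, by simp⟩

end Cfsg.Agent.Helper33
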