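import Mathlib
import Cfsg.Agent.S1434

set_option autoImplicit false

/-!
# CALL BG36 (helper2; row S1436), piece KE1 (helper33, double): a prime of `σ(M)` dividing the order
of an element of the partner `M*` lies in `κ(M*)`.
-/

namespace Cfsg.Agent.Helper33

open Cfsg Subgroup

universe u

variable {G : Type u} [Group G] [Finite G]

/-- PIECE KE1: `K* = C_{M_σ}(K)` is a Hall `σ(M)`-subgroup of `M*` (S1434) and a Hall
`κ(M*)`-subgroup: a prime of `σ(M)` dividing the order of an element of `M*` lies in `κ(M*)`. -/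
theorem bg36_primes_kappa (hG : IsMinSimpleOddOrder G) {M K U Ms : Subgroup G} (hM : IsCoatom M)
    (hKU : IsSigmaDecomposition M K U) (hK1 : K ≠ ⊥) (hMs : IsCoatom Ms)
    (hKst : K = sigmaCore Ms ⊓ centralizer ((sigmaCore M ⊓ centralizer (K : Set G) : Subgroup G) : Set G))
    (hKstH : IsPiHallOf (kappa Ms) (sigmaCore M ⊓ centralizer (K : Set G)) Ms)
    {y : G} (hy : y ∈ Ms) {s : ℕ} (hs : s.Prime) (hsy : s ∣ orderOf y) (hsσ : s ∈ sigma M) :
    s ∈ kappa Ms := by
  obtain ⟨-, hH, -⟩ := Cfsg.Agent.S1434.result hG M hM K U hKU hK1 Ms hMs hKst hKstH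
  obtain ⟨hle, -, hrel⟩ := hH
  have hcard := Subgroup.relIndex_mul_relIndex ⊥
    (sigmaCore M ⊓ centralizer (K : Set G)) Ms bot_le hle
  rw [Subgroup.relIndex_bot_left, Subgroup.relIndex_bot_left] at hcard
  have hsMs : s ∣ Nat.card Ms := hsy.trans (Subgroup.orderOf_dvd_natCard Ms hy)
  rw [← hcard] at hsMs
  rcases (Nat.Prime.dvd_mul hs).mp hsMs with h | h
  · exact hKstH.2.1 s hs h
  · exact absurd h (hrel s hs hsσ)

end Cfsg.Agent.Helper33
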