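import Cfsg.Agent.Helper22.BG13iDefs
import Cfsg.Agent.Helper22.BG14Defs
import Cfsg.Agent.Helper22.Transitivity
import Cfsg.Agent.Helper1.BG139Defs
import Cfsg.Agent.Helper35.Coprime
import Cfsg.Agent.Helper55.BGFpf

/-!
# Helper33: PIECE FS of CALL S1351A (helper22): the FPF lemma on a section.
-/

set_option autoImplicit false

namespace Cfsg.Agent.Helper33

open Cfsg Subgroup

universe u

variable {G : Type u} [Group G] [Finite G]

omit [Finite G] in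
theorem bg13i_norm_inf {A B : Subgroup G} {g : G} (hA : g ∈ normalizer (A : Set G))
    (hB : g ∈ normalizer (B : Set G)) : g ∈ normalizer ((A ⊓ B : Subgroup G) : Set G) := by
  rw [mem_normalizer_iff]
  intro h
  rw [Subgroup.mem_inf, Subgroup.mem_inf, ← mem_normalizer_iff.mp hA h,
    ← mem_normalizer_iff.mp hB h]

omit [Finite G] in
theorem bg13i_norm_cent {P : Subgroup G} {g : G} (hg : g ∈ normalizer (P : Set G)) :
    g ∈ normalizer ((centralizer (P : Set G) : Subgroup G) : Set G) := by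
  rw [mem_normalizer_iff]
  intro h
  constructor
  · intro hh
    exact Cfsg.Agent.Helper55.bgfpf_conj_mem_centralizer hg hh
  · intro hh
    have h1 := Cfsg.Agent.Helper55.bgfpf_conj_mem_centralizer (inv_mem hg) hh
    have e : g⁻¹ * (g * h * g⁻¹) * g⁻¹⁻¹ = h := by group
    rwa [e] at h1

/-- The FPF lemma on a section `T₁ / T₀`. -/
theorem bg13i_fpf_section (hodd : Odd (Nat.card G)) {r t : ℕ} (hr : r.Prime) (ht : t.Prime)
    (hrt : r ≠ t) {T₀ T₁ Y : Subgroup G} (x : G)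
    (hT₁ : IsPGroup t T₁) (hT₁N : T₁ ≤ normalizer (T₀ : Set G))
    (hYN : Y ≤ normalizer (T₀ : Set G)) (hYT : Y ≤ normalizer (T₁ : Set G))
    (hxN : x ∈ normalizer (T₀ : Set G)) (hxT : x ∈ normalizer (T₁ : Set G))
    (hxY : x ∈ normalizer (Y : Set G)) (hxr : x ^ r = 1)
    (hrY : ¬ r ∣ Nat.card Y) (hcop : (Nat.card T₁).Coprime (Nat.card Y))
    (hfix : ∀ a ∈ T₁, x * a * x⁻¹ * a⁻¹ ∈ T₀ → a ∈ T₀) :
    ∀ y ∈ Y, ∀ a ∈ T₁, (x * y * x⁻¹ * y⁻¹) * a * (x * y * x⁻¹ * y⁻¹)⁻¹ * a⁻¹ ∈ T₀ := by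
  classical
  have := Fact.mk ht
  obtain ⟨Γ, hΓ⟩ : ∃ Γ : Subgroup G, Γ = normalizer (T₀ : Set G) := ⟨_, rfl⟩
  rw [← hΓ] at hT₁N hYN hxN
  have hKn : (T₀.subgroupOf Γ).Normal := by rw [hΓ]; exact Subgroup.normal_in_normalizer
  have hodd' : Odd (Nat.card (↥Γ ⧸ T₀.subgroupOf Γ)) :=
    Odd.of_dvd_nat hodd ((Subgroup.card_quotient_dvd_card _).trans
      (Subgroup.card_subgroup_dvd_card Γ))
  obtain ⟨π, hker⟩ : ∃ π : ↥Γ →* ↥Γ ⧸ T₀.subgroupOf Γ, ∀ g : ↥Γ, π g = 1 ↔ (g : G) ∈ T₀ :=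
    ⟨QuotientGroup.mk' _, fun g => by
      rw [QuotientGroup.mk'_apply, QuotientGroup.eq_one_iff, mem_subgroupOf]⟩
  have htrans : ∀ (H : Subgroup G) (g : G) (hg : g ∈ Γ), g ∈ normalizer (H : Set G) →
      π ⟨g, hg⟩ ∈ normalizer ((((H.subgroupOf Γ).map π : Subgroup (↥Γ ⧸ T₀.subgroupOf Γ))) :
        Set (↥Γ ⧸ T₀.subgroupOf Γ)) := by
    intro H g hg hgH
    have h1 : (⟨g, hg⟩ : Γ) ∈ normalizer ((H.subgroupOf Γ : Subgroup Γ) : Set Γ) := by
      rw [mem_normalizer_iff]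
      intro h
      rw [mem_subgroupOf, mem_subgroupOf]
      exact mem_normalizer_iff.1 hgH (h : G)
    exact Subgroup.le_normalizer_map π (Subgroup.mem_map_of_mem π h1)
  have hNp : IsPGroup t ((T₁.subgroupOf Γ).map π) := (hT₁.comap_subtype).map π
  have hNnil : Group.IsNilpotent ((T₁.subgroupOf Γ).map π) := hNp.isNilpotent
  have hYN' : (Y.subgroupOf Γ).map π ≤
      normalizer ((((T₁.subgroupOf Γ).map π : Subgroup (↥Γ ⧸ T₀.subgroupOf Γ))) :
        Set (↥Γ ⧸ T₀.subgroupOf Γ)) := by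
    rintro _ ⟨y', hy', rfl⟩
    exact htrans T₁ (y' : G) y'.2 (hYT (mem_subgroupOf.mp hy'))
  have hxN' := htrans T₁ x hxN hxT
  have hxY' := htrans Y x hxN hxY
  have hxr' : π ⟨x, hxN⟩ ^ r = 1 := by
    rw [← map_pow]
    have h1 : (⟨x, hxN⟩ : Γ) ^ r = 1 := by
      apply Subtype.ext
      rw [Subgroup.coe_pow, Subgroup.coe_one]
      exact hxr
    rw [h1, map_one]
  have hcN : Nat.card ((T₁.subgroupOf Γ).map π) ∣ Nat.card T₁ := by
    have h1 := Subgroup.card_map_dvd (H := T₁.subgroupOf Γ) π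
    rwa [Nat.card_congr (Subgroup.subgroupOfEquivOfLe hT₁N).toEquiv] at h1
  have hcY : Nat.card ((Y.subgroupOf Γ).map π) ∣ Nat.card Y := by
    have h1 := Subgroup.card_map_dvd (H := Y.subgroupOf Γ) π
    rwa [Nat.card_congr (Subgroup.subgroupOfEquivOfLe hYN).toEquiv] at h1
  have hrN : ¬ r ∣ Nat.card ((T₁.subgroupOf Γ).map π) := by
    obtain ⟨k, hk⟩ := IsPGroup.iff_card.mp hNp
    rw [hk]
    intro h
    exact hrt ((Nat.prime_dvd_prime_iff_eq hr ht).mp (hr.dvd_of_dvd_pow h))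
  have hrY' : ¬ r ∣ Nat.card ((Y.subgroupOf Γ).map π) := fun h => hrY (h.trans hcY)
  have hcop' : (Nat.card ((T₁.subgroupOf Γ).map π)).Coprime
      (Nat.card ((Y.subgroupOf Γ).map π)) :=
    Nat.Coprime.coprime_dvd_left hcN (Nat.Coprime.coprime_dvd_right hcY hcop)
  have hfix' : ∀ a ∈ (T₁.subgroupOf Γ).map π, π ⟨x, hxN⟩ * a = a * π ⟨x, hxN⟩ → a = 1 := by
    rintro _ ⟨a', ha', rfl⟩ hcomm
    have h1 : π (⟨x, hxN⟩ * a' * ⟨x, hxN⟩⁻¹ * a'⁻¹) = 1 := by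
      simp only [map_mul, map_inv]
      rw [hcomm]
      group
    rw [hker] at h1
    have h2 : x * (a' : G) * x⁻¹ * (a' : G)⁻¹ ∈ T₀ := h1
    exact (hker a').mpr (hfix (a' : G) (mem_subgroupOf.mp ha') h2)
  have key := Cfsg.Agent.Helper55.bg_fpf_comm_centralizes hodd' hr _ _ (π ⟨x, hxN⟩) hNnil hYN'
    hxN' hxY' hxr' hrN hrY' hcop' hfix'
  intro y hy a ha
  have hyΓ : y ∈ Γ := hYN hy
  have haΓ : a ∈ Γ := hT₁N ha
  have h5 := key (π ⟨y, hyΓ⟩) (Subgroup.mem_map_of_mem π (mem_subgroupOf.mpr hy))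
    (π ⟨a, haΓ⟩) (Subgroup.mem_map_of_mem π (mem_subgroupOf.mpr ha))
  have h6 : π ((⟨x, hxN⟩ * ⟨y, hyΓ⟩ * ⟨x, hxN⟩⁻¹ * ⟨y, hyΓ⟩⁻¹) * ⟨a, haΓ⟩
      * (⟨x, hxN⟩ * ⟨y, hyΓ⟩ * ⟨x, hxN⟩⁻¹ * ⟨y, hyΓ⟩⁻¹)⁻¹ * ⟨a, haΓ⟩⁻¹) = 1 := by
    have hc : π (⟨x, hxN⟩ * ⟨y, hyΓ⟩ * ⟨x, hxN⟩⁻¹ * ⟨y, hyΓ⟩⁻¹)
        = π ⟨x, hxN⟩ * π ⟨y, hyΓ⟩ * (π ⟨x, hxN⟩)⁻¹ * (π ⟨y, hyΓ⟩)⁻¹ := by
      simp only [map_mul, map_inv]
    rw [map_mul, map_mul, map_mul, map_inv, map_inv, hc, h5]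
    group
  rw [hker] at h6
  exact h6

/-- PIECE FS (PURE). -/
theorem bg13i_fs (hodd : Odd (Nat.card G)) {p r t : ℕ} (hp : p.Prime) (hr : r.Prime)
    (ht : t.Prime) (hpt : p ≠ t) (hrt : r ≠ t) (hpr : p ≠ r) {T P R : Subgroup G}
    (hT : IsPGroup t T) (hPc : Nat.card P = p) (hRc : Nat.card R = r)
    (hPT : P ≤ normalizer (T : Set G)) (hRT : R ≤ normalizer (T : Set G))
    (hRP : R ≤ normalizer (P : Set G)) (hfixP : P ⊓ centralizer (R : Set G) = ⊥)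
    (hfixT : T ⊓ centralizer (R : Set G) ≤ centralizer (P : Set G)) :
    T ≤ centralizer (P : Set G) := by
  classical
  by_contra hTP
  have := Fact.mk ht
  have : Nontrivial R := (Finite.one_lt_card_iff_nontrivial).mp (by rw [hRc]; exact hr.one_lt)
  obtain ⟨⟨x, hxR⟩, hx1⟩ := exists_ne (1 : R)
  have := Fact.mk hr
  have hcentR : ∀ a : G, x * a = a * x → a ∈ centralizer (R : Set G) := by
    intro a ha
    rw [mem_centralizer_iff]
    intro y hy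
    obtain ⟨k, hk⟩ := mem_zpowers_of_prime_card (G := R) hRc (g := ⟨x, hxR⟩) (g' := ⟨y, hy⟩) hx1
    have hyk : y = x ^ k := by
      have := congrArg Subtype.val hk
      simpa using this.symm
    rw [hyk]
    exact ((show Commute x a from ha).zpow_left k).eq
  have hxr : x ^ r = 1 := by
    have h1 : (⟨x, hxR⟩ : R) ^ Nat.card R = 1 := pow_card_eq_one'
    rw [hRc] at h1
    simpa using congrArg Subtype.val h1
  have hfixS : ∀ a ∈ P, x * a = a * x → a = 1 := by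
    intro a ha hc
    have h1 : a ∈ P ⊓ centralizer (R : Set G) := ⟨ha, hcentR a hc⟩
    rw [hfixP] at h1
    exact Subgroup.mem_bot.mp h1
  have hxP : x ∈ normalizer (P : Set G) := hRP hxR
  have hsurj : ∀ g ∈ P, ∃ y ∈ P, g = x * y * x⁻¹ * y⁻¹ := by
    let f : P → P := fun y => ⟨x * y * x⁻¹ * (y : G)⁻¹,
      P.mul_mem ((mem_normalizer_iff.mp hxP y).mp y.2) (P.inv_mem y.2)⟩
    have hinj : Function.Injective f := by
      intro y y' h
      have h' : x * (y : G) * x⁻¹ * (y : G)⁻¹ = x * (y' : G) * x⁻¹ * (y' : G)⁻¹ :=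
        congrArg Subtype.val h
      have e1 : x * (y : G) * x⁻¹ = x * (y' : G) * x⁻¹ * (y' : G)⁻¹ * y := by
        rw [← h']; group
      have h2 : x * ((y' : G)⁻¹ * y) = ((y' : G)⁻¹ * y) * x := by
        calc x * ((y' : G)⁻¹ * y) = x * (y' : G)⁻¹ * x⁻¹ * (x * (y : G) * x⁻¹) * x := by group
          _ = x * (y' : G)⁻¹ * x⁻¹ * (x * (y' : G) * x⁻¹ * (y' : G)⁻¹ * y) * x := by rw [e1]
          _ = ((y' : G)⁻¹ * y) * x := by group
      have h3 := hfixS _ (P.mul_mem (P.inv_mem y'.2) y.2) h2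
      exact Subtype.ext (inv_mul_eq_one.mp h3).symm
    have hsur := Finite.injective_iff_surjective.mp hinj
    intro g hg
    obtain ⟨y, hy⟩ := hsur ⟨g, hg⟩
    exact ⟨y, y.2, (congrArg Subtype.val hy).symm⟩
  obtain ⟨T₀, hT₀⟩ : ∃ T₀ : Subgroup G, T₀ = T ⊓ centralizer (P : Set G) := ⟨_, rfl⟩
  have hT₀T : T₀ ≤ T := by rw [hT₀]; exact inf_le_left
  have hT₀C : T₀ ≤ centralizer (P : Set G) := by rw [hT₀]; exact inf_le_right
  have hnT₀ : ∀ g : G, g ∈ normalizer (T : Set G) → g ∈ normalizer (P : Set G) →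
      g ∈ normalizer (T₀ : Set G) := by
    intro g hgT hgP
    rw [hT₀]
    exact bg13i_norm_inf hgT (bg13i_norm_cent hgP)
  have hxT₀ : x ∈ normalizer (T₀ : Set G) := hnT₀ x (hRT hxR) hxP
  have hPT₀ : P ≤ normalizer (T₀ : Set G) := fun c hc => hnT₀ c (hPT hc) (le_normalizer hc)
  obtain ⟨T₁, hT₁⟩ : ∃ T₁ : Subgroup G, T₁ = T ⊓ normalizer (T₀ : Set G) := ⟨_, rfl⟩
  have hnT₁ : ∀ g : G, g ∈ normalizer (T : Set G) → g ∈ normalizer (T₀ : Set G) →
      g ∈ normalizer (T₁ : Set G) := by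
    intro g hgT hg0
    rw [hT₁]
    exact bg13i_norm_inf hgT (le_normalizer hg0)
  have hT₁T : T₁ ≤ T := by rw [hT₁]; exact inf_le_left
  have hT₁N : T₁ ≤ normalizer (T₀ : Set G) := by rw [hT₁]; exact inf_le_right
  have hT₁p : IsPGroup t T₁ := hT.to_le hT₁T
  obtain ⟨k, hk⟩ := IsPGroup.iff_card.mp hT₁p
  have hrP : ¬ r ∣ Nat.card P := by
    rw [hPc]
    intro h
    exact hpr ((Nat.prime_dvd_prime_iff_eq hr hp).mp h).symm
  have hcop : (Nat.card T₁).Coprime (Nat.card P) := by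
    rw [hk, hPc]
    exact Nat.Coprime.pow_left _ ((Nat.coprime_primes ht hp).mpr hpt.symm)
  have hfix : ∀ a ∈ T₁, x * a * x⁻¹ * a⁻¹ ∈ T₀ → a ∈ T₀ := by
    intro a ha hxa
    have haT : a ∈ T := hT₁T ha
    have haN : a ∈ normalizer (T₀ : Set G) := hT₁N ha
    have hzp : ∀ b ∈ zpowers x, b ∈ normalizer (T₀ : Set G) ∧ a⁻¹ * b * a * b⁻¹ ∈ T₀ := by
      let S' : Subgroup G :=
        { carrier := {b | b ∈ normalizer (T₀ : Set G) ∧ a⁻¹ * b * a * b⁻¹ ∈ T₀}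
          one_mem' := ⟨one_mem _, by
            have e : a⁻¹ * 1 * a * (1 : G)⁻¹ = 1 := by group
            rw [e]
            exact T₀.one_mem⟩
          mul_mem' := by
            rintro b b' ⟨hb, hb2⟩ ⟨hb', hb2'⟩
            refine ⟨mul_mem hb hb', ?_⟩
            have e : a⁻¹ * (b * b') * a * (b * b')⁻¹ =
                (a⁻¹ * b * a * b⁻¹) * (b * (a⁻¹ * b' * a * b'⁻¹) * b⁻¹) := by group
            rw [e]
            exact T₀.mul_mem hb2 ((mem_normalizer_iff.mp hb _).mp hb2')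
          inv_mem' := by
            rintro b ⟨hb, hb2⟩
            refine ⟨inv_mem hb, ?_⟩
            have e : a⁻¹ * b⁻¹ * a * b⁻¹⁻¹ = b⁻¹ * (a⁻¹ * b * a * b⁻¹)⁻¹ * b⁻¹⁻¹ := by group
            rw [e]
            exact (mem_normalizer_iff.mp (inv_mem hb) _).mp (T₀.inv_mem hb2) }
      have hle : zpowers x ≤ S' := by
        rw [zpowers_le]
        refine ⟨hxT₀, ?_⟩
        have e : a⁻¹ * x * a * x⁻¹ = a⁻¹ * (x * a * x⁻¹ * a⁻¹) * a⁻¹⁻¹ := by group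
        rw [e]
        exact (mem_normalizer_iff.mp (inv_mem haN) _).mp hxa
      exact fun b hb => hle hb
    have hA : zpowers x ≤ normalizer (T₀ : Set G) := fun b hb => (hzp b hb).1
    have hcopA : (Nat.card (zpowers x)).Coprime (Nat.card T₀) := by
      rw [Nat.card_zpowers]
      obtain ⟨m, hm⟩ := IsPGroup.iff_card.mp (hT.to_le hT₀T)
      rw [hm]
      exact Nat.Coprime.coprime_dvd_left (orderOf_dvd_of_pow_eq_one hxr)
        (Nat.Coprime.pow_right _ ((Nat.coprime_primes hr ht).mpr hrt))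
    obtain ⟨c, hc, hac⟩ := Cfsg.Agent.Helper35.exists_fixed_in_coset hA hcopA
      (Or.inl (Cfsg.Agent.Helper62.FitAct.zpowers_isSolvable x)) a (fun b hb => (hzp b hb).2)
    have hcT : c ∈ T := by
      have e : c = a * (a⁻¹ * c) := by group
      rw [e]
      exact T.mul_mem haT (hT₀T hac)
    have hcx : x * c = c * x := mem_centralizer_iff.mp hc x (mem_zpowers x)
    have hcT₀ : c ∈ T₀ := by
      rw [hT₀]
      exact ⟨hcT, hfixT ⟨hcT, hcentR c hcx⟩⟩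
    have e : a = c * (a⁻¹ * c)⁻¹ := by group
    rw [e]
    exact T₀.mul_mem hcT₀ (T₀.inv_mem hac)
  have key := bg13i_fpf_section hodd hr ht hrt x hT₁p hT₁N hPT₀
    (fun c hc => hnT₁ c (hPT hc) (hPT₀ hc)) hxT₀ (hnT₁ x (hRT hxR) hxT₀) hxP hxr hrP hcop hfix
  have hT₁C : T₁ ≤ centralizer (P : Set G) := by
    intro a ha
    rw [mem_centralizer_iff]
    intro c₀ hc₀
    obtain ⟨y, hy, hc₀y⟩ := hsurj c₀ hc₀
    obtain ⟨z, hzdef⟩ : ∃ z : G, z = c₀ * a * c₀⁻¹ * a⁻¹ := ⟨_, rfl⟩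
    have hz : z ∈ T₀ := by
      rw [hzdef, hc₀y]
      exact key y hy a ha
    have hzc : c₀ * z = z * c₀ := mem_centralizer_iff.mp (hT₀C hz) c₀ hc₀
    have hpow : ∀ k : ℕ, c₀ ^ k * a * (c₀ ^ k)⁻¹ = z ^ k * a := by
      intro k
      induction k with
      | zero => simp
      | succ k ih =>
        have hzk : c₀ * z ^ k = z ^ k * c₀ :=
          (Commute.pow_right (show Commute c₀ z from hzc) k).eq
        calc c₀ ^ (k + 1) * a * (c₀ ^ (k + 1))⁻¹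
            = c₀ * (c₀ ^ k * a * (c₀ ^ k)⁻¹) * c₀⁻¹ := by rw [pow_succ']; group
          _ = c₀ * (z ^ k * a) * c₀⁻¹ := by rw [ih]
          _ = (c₀ * z ^ k) * a * c₀⁻¹ := by group
          _ = z ^ k * (c₀ * a * c₀⁻¹ * a⁻¹) * a := by rw [hzk]; group
          _ = z ^ (k + 1) * a := by rw [← hzdef, pow_succ]
    have hcp : c₀ ^ p = 1 := by
      have h1 : (⟨c₀, hc₀⟩ : P) ^ Nat.card P = 1 := pow_card_eq_one'
      rw [hPc] at h1
      simpa using congrArg Subtype.val h1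
    have hzp' : z ^ p = 1 := by
      have h1 := hpow p
      rw [hcp, inv_one, one_mul, mul_one] at h1
      exact mul_right_cancel (b := a) (by rw [one_mul]; exact h1.symm)
    have hz1 : z = 1 := by
      obtain ⟨m, hm⟩ := hT ⟨z, hT₀T hz⟩
      have hm' : z ^ t ^ m = 1 := by simpa using congrArg Subtype.val hm
      have h1 : orderOf z ∣ p := orderOf_dvd_of_pow_eq_one hzp'
      have h2 : orderOf z ∣ t ^ m := orderOf_dvd_of_pow_eq_one hm'
      have h3 : orderOf z = 1 := Nat.eq_one_of_dvd_coprimes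
        (Nat.Coprime.pow_right m ((Nat.coprime_primes hp ht).mpr hpt)) h1 h2
      exact orderOf_eq_one_iff.mp h3
    calc c₀ * a = (c₀ * a * c₀⁻¹ * a⁻¹) * (a * c₀) := by group
      _ = a * c₀ := by rw [← hzdef, hz1, one_mul]
  have hlt : T₀.subgroupOf T < ⊤ := by
    rw [lt_top_iff_ne_top]
    intro h
    apply hTP
    exact (Subgroup.subgroupOf_eq_top.mp h).trans hT₀C
  have hnc : NormalizerCondition ↥T := @normalizerCondition_of_isNilpotent _ _ hT.isNilpotent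
  obtain ⟨a', ha'N, ha'T₀⟩ := SetLike.exists_of_lt (hnc _ hlt)
  apply ha'T₀
  rw [mem_subgroupOf]
  have haT₁ : (a' : G) ∈ T₁ := by
    rw [hT₁]
    refine Subgroup.mem_inf.mpr ⟨a'.2, ?_⟩
    rw [mem_normalizer_iff]
    intro h
    constructor
    · intro hh
      have h1 := (mem_normalizer_iff.mp ha'N ⟨h, hT₀T hh⟩).mp (mem_subgroupOf.mpr hh)
      exact mem_subgroupOf.mp h1
    · intro hh
      have hhT : h ∈ T := by
        have e : h = (a' : G)⁻¹ * ((a' : G) * h * (a' : G)⁻¹) * (a' : G) := by group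
        rw [e]
        exact T.mul_mem (T.mul_mem (T.inv_mem a'.2) (hT₀T hh)) a'.2
      have h1 := (mem_normalizer_iff.mp ha'N ⟨h, hhT⟩).mpr (mem_subgroupOf.mpr hh)
      exact mem_subgroupOf.mp h1
  rw [hT₀]
  exact ⟨a'.2, hT₁C haT₁⟩

end Cfsg.Agent.Helper33
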