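import Cfsg.Agent.Helper22.BG13iDefs
import Cfsg.Agent.Helper22.BG14Defs
import Cfsg.Agent.Helper22.Transitivity
import Cfsg.Agent.Helper1.BG139Defs
import Cfsg.Agent.Helper35.CoprimeAbelian

/-!
# Helper33: PIECE GL2 of CALL S1351A (helper22).
-/

set_option autoImplicit false

namespace Cfsg.Agent.Helper33

open Cfsg Subgroup

universe u

variable {G : Type u} [Group G] [Finite G]

/-- PIECE GL2 (PURE). -/
theorem bg13i_gl2 {A P R X : Subgroup G} {u p : ℕ} (hu : u.Prime) (hp : p.Prime) (hup : u ≠ p)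
    (hA : IsElementaryAbelian u A) (hAc : Nat.card A = u ^ 2) (hPc : Nat.card P = p)
    (hPA : P ≤ normalizer (A : Set G)) (hRA : R ≤ normalizer (A : Set G))
    (hRP : R ≤ normalizer (P : Set G)) (hfix : P ⊓ centralizer (R : Set G) = ⊥)
    (hXA : X ≤ A) (hX1 : X ≠ ⊥) (hXP : X ≤ centralizer (P : Set G)) :
    A ≤ centralizer (P : Set G) := by
  classical
  have hcomm : ∀ a ∈ A, ∀ b ∈ A, a * b = b * a := by
    intro a ha b hb
    have h := hA.1.is_comm.comm (⟨a, ha⟩ : A) ⟨b, hb⟩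
    exact congrArg Subtype.val h
  have hcop : (Nat.card P).Coprime (Nat.card A) := by
    rw [hPc, hAc]
    exact Nat.Coprime.pow_right _ ((Nat.coprime_primes hp hu).mpr hup.symm)
  obtain ⟨B, hB⟩ : ∃ B : Subgroup G, B = ⁅A, P⁆ := ⟨_, rfl⟩
  have hBA : B ≤ A := by
    rw [hB, Subgroup.commutator_le]
    intro a ha x hx
    show a * x * a⁻¹ * x⁻¹ ∈ A
    have h1 : a * x * a⁻¹ * x⁻¹ = a * (x * a⁻¹ * x⁻¹) := by group
    rw [h1]
    exact A.mul_mem ha ((mem_normalizer_iff.mp (hPA hx) a⁻¹).mp (A.inv_mem ha))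
  have hBC : B ⊓ centralizer (P : Set G) = ⊥ := by
    rw [hB]
    exact Cfsg.Agent.Helper35.commutator_inf_centralizer_eq_bot_of_comm hPA hcop hcomm
  by_cases hB1 : B = ⊥
  · intro a ha
    rw [mem_centralizer_iff]
    intro x hx
    have h1 : a * x * a⁻¹ * x⁻¹ ∈ B := by
      rw [hB]; exact Subgroup.commutator_mem_commutator ha hx
    rw [hB1, Subgroup.mem_bot] at h1
    calc x * a = (a * x * a⁻¹ * x⁻¹)⁻¹ * (a * x) := by group
      _ = a * x := by rw [h1, inv_one, one_mul]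
  exfalso
  have hnorm : ∀ g : G, g ∈ normalizer (A : Set G) → g ∈ normalizer (P : Set G) →
      ∀ b ∈ B, g * b * g⁻¹ ∈ B := by
    intro g hgA hgP b hb
    have hmap : B.map (MulAut.conj g).toMonoidHom ≤ B := by
      rw [hB, Subgroup.map_commutator]
      apply Subgroup.commutator_mono
      · rintro _ ⟨a, ha, rfl⟩
        exact (mem_normalizer_iff.mp hgA a).mp ha
      · rintro _ ⟨a, ha, rfl⟩
        exact (mem_normalizer_iff.mp hgP a).mp ha
    exact hmap ⟨b, hb, rfl⟩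
  have hBX : B ⊓ X = ⊥ := by
    rw [eq_bot_iff, ← hBC]
    exact inf_le_inf_left B hXP
  have hBcard : Nat.card B = u := by
    have hdvd : Nat.card B ∣ u ^ 2 := by rw [← hAc]; exact Subgroup.card_dvd_of_le hBA
    obtain ⟨k, hk, hBk⟩ := (Nat.dvd_prime_pow hu).mp hdvd
    interval_cases k
    · exfalso
      exact hB1 (Subgroup.card_eq_one.mp (by rw [hBk, pow_zero]))
    · rw [hBk, pow_one]
    · exfalso
      have hBeqA : B = A := Subgroup.eq_of_le_of_card_ge hBA (by rw [hAc, hBk])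
      apply hX1
      rw [eq_bot_iff, ← hBX, hBeqA]
      exact le_inf hXA le_rfl
  have := Fact.mk hu
  haveI : Nontrivial B := (Finite.one_lt_card_iff_nontrivial).mp (by rw [hBcard]; exact hu.one_lt)
  obtain ⟨⟨b₀, hb₀B⟩, hb₀1⟩ := exists_ne (1 : B)
  have hgen : ∀ b ∈ B, ∃ k : ℤ, b = b₀ ^ k := by
    intro b hb
    obtain ⟨k, hk⟩ := mem_zpowers_of_prime_card (G := B) hBcard (g := ⟨b₀, hb₀B⟩)
      (g' := ⟨b, hb⟩) hb₀1
    refine ⟨k, ?_⟩
    have := congrArg Subtype.val hk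
    simpa using this.symm
  have hact : ∀ x ∈ P, ∀ y ∈ R, ∀ b ∈ B,
      (x * y) * b * (x * y)⁻¹ = (y * x) * b * (y * x)⁻¹ := by
    intro x hx y hy b hb
    obtain ⟨k, rfl⟩ := hgen b hb
    obtain ⟨i, hi⟩ := hgen _ (hnorm x (hPA hx) (le_normalizer hx) b₀ hb₀B)
    obtain ⟨j, hj⟩ := hgen _ (hnorm y (hRA hy) (hRP hy) b₀ hb₀B)
    have hxm : ∀ m : ℤ, x * b₀ ^ m * x⁻¹ = b₀ ^ (i * m) := by
      intro m
      rw [← conj_zpow, hi, ← zpow_mul]
    have hym : ∀ m : ℤ, y * b₀ ^ m * y⁻¹ = b₀ ^ (j * m) := by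
      intro m
      rw [← conj_zpow, hj, ← zpow_mul]
    have e1 : (x * y) * b₀ ^ k * (x * y)⁻¹ = x * (y * b₀ ^ k * y⁻¹) * x⁻¹ := by group
    have e2 : (y * x) * b₀ ^ k * (y * x)⁻¹ = y * (x * b₀ ^ k * x⁻¹) * y⁻¹ := by group
    rw [e1, e2, hym, hxm, hxm, hym]
    congr 1
    ring
  haveI : Nontrivial P := (Finite.one_lt_card_iff_nontrivial).mp (by rw [hPc]; exact hp.one_lt)
  obtain ⟨⟨x₀, hx₀P⟩, hx₀1⟩ := exists_ne (1 : P)
  have hx₀1' : x₀ ≠ 1 := fun h => hx₀1 (Subtype.ext h)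
  obtain ⟨y, hyR, hyx₀⟩ : ∃ y ∈ R, y * x₀ ≠ x₀ * y := by
    by_contra hno
    push Not at hno
    apply hx₀1'
    have h1 : x₀ ∈ P ⊓ centralizer (R : Set G) :=
      ⟨hx₀P, mem_centralizer_iff.mpr (fun y hy => hno y hy)⟩
    rw [hfix] at h1
    exact Subgroup.mem_bot.mp h1
  have hCy : P ⊓ centralizer ({y} : Set G) = ⊥ := by
    have hdvd : Nat.card ↥(P ⊓ centralizer ({y} : Set G)) ∣ p := by
      rw [← hPc]; exact Subgroup.card_dvd_of_le inf_le_left
    rcases (Nat.dvd_prime hp).mp hdvd with h | h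
    · exact Subgroup.card_eq_one.mp h
    · exfalso
      have heq : P ⊓ centralizer ({y} : Set G) = P :=
        Subgroup.eq_of_le_of_card_ge inf_le_left (by rw [h, hPc])
      have h1 : x₀ ∈ P ⊓ centralizer ({y} : Set G) := by rw [heq]; exact hx₀P
      exact hyx₀ (mem_centralizer_iff.mp h1.2 y (Set.mem_singleton y))
  have hsurj : ∀ g ∈ P, ∃ x ∈ P, g = x * y * x⁻¹ * y⁻¹ := by
    let f : P → P := fun x => ⟨(x : G) * (y * (x : G)⁻¹ * y⁻¹),
      P.mul_mem x.2 ((mem_normalizer_iff.mp (hRP hyR) (x : G)⁻¹).mp (P.inv_mem x.2))⟩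
    have hinj : Function.Injective f := by
      intro x x' h
      have h' : (x : G) * (y * (x : G)⁻¹ * y⁻¹) = (x' : G) * (y * (x' : G)⁻¹ * y⁻¹) :=
        congrArg Subtype.val h
      have e1 : (x : G) * y * (x : G)⁻¹ = (x' : G) * y * (x' : G)⁻¹ := by
        calc (x : G) * y * (x : G)⁻¹ = ((x : G) * (y * (x : G)⁻¹ * y⁻¹)) * y := by group
          _ = ((x' : G) * (y * (x' : G)⁻¹ * y⁻¹)) * y := by rw [h']
          _ = (x' : G) * y * (x' : G)⁻¹ := by group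
      have h2 : y * ((x' : G)⁻¹ * (x : G)) = ((x' : G)⁻¹ * (x : G)) * y := by
        calc y * ((x' : G)⁻¹ * (x : G))
            = (x' : G)⁻¹ * ((x' : G) * y * (x' : G)⁻¹) * (x : G) := by group
          _ = (x' : G)⁻¹ * ((x : G) * y * (x : G)⁻¹) * (x : G) := by rw [e1]
          _ = ((x' : G)⁻¹ * (x : G)) * y := by group
      have h3 : (x' : G)⁻¹ * (x : G) ∈ P ⊓ centralizer ({y} : Set G) := by
        refine Subgroup.mem_inf.mpr ⟨P.mul_mem (P.inv_mem x'.2) x.2, ?_⟩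
        rw [mem_centralizer_iff]
        intro h hh
        rw [Set.mem_singleton_iff] at hh
        rw [hh]
        exact h2
      rw [hCy, Subgroup.mem_bot] at h3
      exact Subtype.ext (inv_mul_eq_one.mp h3).symm
    have hsur := Finite.injective_iff_surjective.mp hinj
    intro g hg
    obtain ⟨x, hx⟩ := hsur ⟨g, hg⟩
    refine ⟨x, x.2, ?_⟩
    have h4 : g = (x : G) * (y * (x : G)⁻¹ * y⁻¹) := (congrArg Subtype.val hx).symm
    rw [h4]
    group
  have hPB : B ≤ centralizer (P : Set G) := by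
    intro b hb
    rw [mem_centralizer_iff]
    intro g hg
    obtain ⟨x, hx, rfl⟩ := hsurj g hg
    have hb' : (y * x)⁻¹ * b * (y * x) ∈ B := by
      have h5 := hnorm (y * x)⁻¹
        ((normalizer (A : Set G)).inv_mem ((normalizer (A : Set G)).mul_mem (hRA hyR) (hPA hx)))
        ((normalizer (P : Set G)).inv_mem
          ((normalizer (P : Set G)).mul_mem (hRP hyR) (le_normalizer hx))) b hb
      rwa [inv_inv] at h5
    have h1 := hact x hx y hyR _ hb'
    have h2 : (x * y * x⁻¹ * y⁻¹) * b * (x * y * x⁻¹ * y⁻¹)⁻¹ = b := by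
      calc (x * y * x⁻¹ * y⁻¹) * b * (x * y * x⁻¹ * y⁻¹)⁻¹
          = (x * y) * ((y * x)⁻¹ * b * (y * x)) * (x * y)⁻¹ := by group
        _ = (y * x) * ((y * x)⁻¹ * b * (y * x)) * (y * x)⁻¹ := h1
        _ = b := by group
    calc x * y * x⁻¹ * y⁻¹ * b
        = (x * y * x⁻¹ * y⁻¹ * b * (x * y * x⁻¹ * y⁻¹)⁻¹) * (x * y * x⁻¹ * y⁻¹) := by group
      _ = b * (x * y * x⁻¹ * y⁻¹) := by rw [h2]
  apply hB1
  rw [eq_bot_iff, ← hBC]
  exact le_inf le_rfl hPB

end Cfsg.Agent.Helper33
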