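/-
CALL BG17 (helper25), piece FE2 (helper33): `C_M(M_σ) ≤ F(M)`.
-/
import Cfsg.Agent.Helper22.BG127
import Cfsg.Agent.Helper24.BG11b
import Cfsg.Agent.Helper23.Trans
import Cfsg.Agent.S1403
import Cfsg.Agent.S1438

set_option autoImplicit false

namespace Cfsg.Agent.Helper33

open Cfsg Subgroup

universe u

variable {G : Type u} [Group G] [Finite G]

theorem bg17_cent_le_fitting (hG : IsMinSimpleOddOrder G) {M : Subgroup G} (hM : IsCoatom M) :
    M ⊓ centralizer (sigmaCore M : Set G) ≤ fittingOf M := by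
  classical
  have hU : Cfsg.Agent.Helper22.BGUniq G :=
    fun K hK h1 h2 => Cfsg.Agent.S1403.result hG K hK h1 h2
  have hS1 : sigmaCore M ≠ ⊥ := Cfsg.Agent.Helper24.bg11b_sigmaCore_ne_bot hG hU hM
  have hHall : (Nat.card (sigmaCore M)).Coprime ((sigmaCore M).relIndex (sigmaCore M)) := by
    rw [Subgroup.relIndex_self]
    exact Nat.coprime_one_right _
  obtain ⟨⟨X, hXc, -, hX⟩, -⟩ :=
    Cfsg.Agent.S1438.result hG M hM (sigmaCore M) le_rfl hS1 hHall
  have hnS : M ≤ normalizer (sigmaCore M : Set G) :=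
    Cfsg.Agent.Helper23.le_normalizer_piCoreOf (sigma M) M
  -- `M` normalizes `C_M(M_σ)`
  have key : ∀ m ∈ M, ∀ x ∈ M ⊓ centralizer (sigmaCore M : Set G),
      m * x * m⁻¹ ∈ M ⊓ centralizer (sigmaCore M : Set G) := by
    intro m hm x hx
    refine ⟨M.mul_mem (M.mul_mem hm hx.1) (M.inv_mem hm), ?_⟩
    show m * x * m⁻¹ ∈ centralizer (sigmaCore M : Set G)
    rw [Subgroup.mem_centralizer_iff]
    intro s hs
    have hs' : m⁻¹ * s * m⁻¹⁻¹ ∈ sigmaCore M :=
      ((Subgroup.mem_normalizer_iff.mp (hnS (M.inv_mem hm))) s).mp hs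
    have hc := (Subgroup.mem_centralizer_iff.mp hx.2) _ hs'
    rw [inv_inv] at hc
    calc s * (m * x * m⁻¹) = m * ((m⁻¹ * s * m) * x) * m⁻¹ := by group
      _ = m * (x * (m⁻¹ * s * m)) * m⁻¹ := by rw [hc]
      _ = m * x * m⁻¹ * s := by group
  apply Cfsg.Agent.Helper22.bg127_le_fittingOf inf_le_left
  · intro m hm
    rw [Subgroup.mem_normalizer_iff]
    intro x
    constructor
    · intro hx
      exact key m hm x hx
    · intro hx
      have h1 := key m⁻¹ (M.inv_mem hm) _ hx
      have h2 : m⁻¹ * (m * x * m⁻¹) * m⁻¹⁻¹ = x := by group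
      rw [h2] at h1
      exact h1
  · -- abelian
    have hXle : X ≤ M ⊓ centralizer (sigmaCore M : Set G) := by
      rw [hX]
      exact le_sup_right
    have hAA : sigmaCore M ⊓ centralizer (sigmaCore M : Set G) ≤
        centralizer ((sigmaCore M ⊓ centralizer (sigmaCore M : Set G) : Subgroup G) : Set G) := by
      intro a ha
      rw [Subgroup.mem_centralizer_iff]
      intro a' ha'
      exact (Subgroup.mem_centralizer_iff.mp ha.2) a' ha'.1
    have hXA : X ≤
        centralizer ((sigmaCore M ⊓ centralizer (sigmaCore M : Set G) : Subgroup G) : Set G) := by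
      intro x hx
      rw [Subgroup.mem_centralizer_iff]
      intro a' ha'
      exact (Subgroup.mem_centralizer_iff.mp (hXle hx).2) a' ha'.1
    have hXX : X ≤ centralizer (X : Set G) := by
      intro x hx
      rw [Subgroup.mem_centralizer_iff]
      intro y hy
      let _ := hXc.commGroup
      exact congrArg Subtype.val (mul_comm (⟨y, hy⟩ : X) ⟨x, hx⟩)
    have hcomm : (sigmaCore M ⊓ centralizer (sigmaCore M : Set G)) ⊔ X ≤
        centralizer (((sigmaCore M ⊓ centralizer (sigmaCore M : Set G)) ⊔ X : Subgroup G) :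
          Set G) := by
      apply sup_le
      · rw [Subgroup.le_centralizer_iff]
        exact sup_le hAA hXA
      · rw [Subgroup.le_centralizer_iff]
        exact sup_le (Subgroup.le_centralizer_iff.mp hXA) hXX
    rw [← hX] at hcomm
    let _ : CommGroup ↥(M ⊓ centralizer (sigmaCore M : Set G)) :=
      { (inferInstance : Group ↥(M ⊓ centralizer (sigmaCore M : Set G))) with
        mul_comm := fun a b => Subtype.ext
          ((Subgroup.mem_centralizer_iff.mp (hcomm b.2)) a a.2) }
    exact CommGroup.isNilpotent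

end Cfsg.Agent.Helper33
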