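/-
CALL BG17 (helper25), piece WC (helper33): `K` is a complement of `M' = U M_σ` in `M`.
-/
import Cfsg.Agent.Helper22.Transitivity
import Cfsg.Agent.Helper23.Trans
import Cfsg.Agent.Helper49.BG14U
import Cfsg.Agent.S1365

set_option autoImplicit false

namespace Cfsg.Agent.Helper33

open Cfsg Subgroup

universe u

variable {G : Type u} [Group G] [Finite G]

theorem bg17_W1_compl (hG : IsMinSimpleOddOrder G) {M K U : Subgroup G} (hM : IsCoatom M)
    (hKU : IsSigmaDecomposition M K U) (hK1 : K ≠ ⊥) : IsComplIn ⁅M, M⁆ K M := by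
  obtain ⟨hd, -⟩ := Cfsg.Agent.S1365.result hG M hM K U hKU hK1
  have hKM : K ≤ M := hKU.hall.1
  have hSn : M ≤ normalizer (sigmaCore M : Set G) :=
    Cfsg.Agent.Helper23.le_normalizer_piCoreOf (sigma M) M
  have hKS : K ⊓ sigmaCore M = ⊥ := Cfsg.Agent.Helper49.bg14u_kappa_inf_sigma hKU.hall.2.1
  obtain ⟨hUM, hKSM, hUKS, hfac⟩ := hKU.compl
  have hSM : sigmaCore M ≤ M := le_trans le_sup_right hKSM
  refine ⟨?_, hKM, ?_, ?_⟩
  · rw [hd]
    exact sup_le hUM hSM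
  · rw [eq_bot_iff]
    rintro x ⟨hx1, hx2⟩
    have hx1' : x ∈ U ⊔ sigmaCore M := by
      rw [← hd]
      exact hx1
    obtain ⟨u, hu, s, hs, rfl⟩ :=
      Cfsg.Agent.Helper22.exists_mul_of_mem_sup' (hUM.trans hSn) hx1'
    have hu' : u ∈ K ⊔ sigmaCore M := by
      have h1 : u = (u * s) * s⁻¹ := by group
      rw [h1]
      exact Subgroup.mul_mem _ (Subgroup.mem_sup_left hx2)
        (Subgroup.mem_sup_right (Subgroup.inv_mem _ hs))
    have hu1 : u = 1 := by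
      have h1 : u ∈ U ⊓ (K ⊔ sigmaCore M) := ⟨hu, hu'⟩
      rw [hUKS, Subgroup.mem_bot] at h1
      exact h1
    subst hu1
    rw [one_mul] at hx2 ⊢
    have h2 : s ∈ K ⊓ sigmaCore M := ⟨hx2, hs⟩
    rw [hKS] at h2
    exact h2
  · intro m hm
    obtain ⟨u, hu, y, hy, rfl⟩ := hfac m hm
    obtain ⟨k, hk, s, hs, rfl⟩ :=
      Cfsg.Agent.Helper22.exists_mul_of_mem_sup' (hKM.trans hSn) hy
    have hs' : k * s * k⁻¹ ∈ sigmaCore M :=
      ((Subgroup.mem_normalizer_iff.mp (hSn (hKM hk))) s).mp hs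
    refine ⟨u * (k * s * k⁻¹), ?_, k, hk, by group⟩
    rw [hd]
    exact Subgroup.mul_mem _ (Subgroup.mem_sup_left hu) (Subgroup.mem_sup_right hs')

end Cfsg.Agent.Helper33
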