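import Cfsg.Agent.Helper49.BGCDefs2
import Cfsg.Agent.Helper24.BG13V

/-!
# Helper33: PIECE MW of CALL S1351C (helper49).
-/

set_option autoImplicit false
set_option linter.unusedSectionVars false

namespace Cfsg.Agent.Helper33

open Cfsg Subgroup Cfsg.Agent.Helper49

universe u

variable {G : Type u} [Group G] [Finite G]

/-- MW (pure). `W = Z E` elementwise (`Z` centralizes `E`). -/
theorem starc_mem_W {M E : Subgroup G} (w : G) :
    w ∈ starW M E ↔ ∃ z ∈ starZ M E, ∃ e ∈ E, w = z * e := by
  have hcomm : ∀ z ∈ starZ M E, ∀ e ∈ E, e * z = z * e := by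
    intro z hz e he
    have hz' : z ∈ centralizer (E : Set G) := (Subgroup.mem_inf.mp hz).2
    exact mem_centralizer_iff.mp hz' e he
  constructor
  · intro hw
    let T : Subgroup G :=
      { carrier := {w | ∃ z ∈ starZ M E, ∃ e ∈ E, w = z * e}
        one_mem' := ⟨1, (starZ M E).one_mem, 1, E.one_mem, (mul_one 1).symm⟩
        mul_mem' := by
          rintro _ _ ⟨z, hz, e, he, rfl⟩ ⟨z', hz', e', he', rfl⟩
          refine ⟨z * z', (starZ M E).mul_mem hz hz', e * e', E.mul_mem he he', ?_⟩
          calc z * e * (z' * e') = z * (e * z') * e' := by group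
            _ = z * (z' * e) * e' := by rw [hcomm z' hz' e he]
            _ = z * z' * (e * e') := by group
        inv_mem' := by
          rintro _ ⟨z, hz, e, he, rfl⟩
          refine ⟨z⁻¹, (starZ M E).inv_mem hz, e⁻¹, E.inv_mem he, ?_⟩
          calc (z * e)⁻¹ = e⁻¹ * z⁻¹ := by group
            _ = z⁻¹ * e⁻¹ := hcomm z⁻¹ ((starZ M E).inv_mem hz) e⁻¹ (E.inv_mem he) }
    have hle : starW M E ≤ T := by
      unfold starW
      apply sup_le
      · intro z hz
        exact ⟨z, hz, 1, E.one_mem, (mul_one z).symm⟩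
      · intro e he
        exact ⟨1, (starZ M E).one_mem, e, he, (one_mul e).symm⟩
    exact hle hw
  · rintro ⟨z, hz, e, he, rfl⟩
    unfold starW
    exact Subgroup.mul_mem _ (Subgroup.mem_sup_left hz) (Subgroup.mem_sup_right he)

end Cfsg.Agent.Helper33
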