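import Cfsg.Agent.Helper40.DZDefs
import Cfsg.Agent.Helper91.DZC2
import Cfsg.Agent.Helper91.DZX1
import Cfsg.Agent.Helper70.DZC3

set_option autoImplicit false

/-!
Piece R3 of CALL S4538 (helper40), by helper33: `ρ(x_j(c) ṡ_j)` maps `V^U` into `V^{uRad}`, and
`∑ c, ρ(x_j(c) ṡ_j)` maps `V^U` into itself.
-/

namespace Cfsg.Agent.Helper33.DZ

open Cfsg.Agent.Helper40.DZ Cfsg.Agent.Helper44.PSLn Matrix

universe u

/-- In a finite subgroup, `g H g⁻¹ ⊆ H` implies `g⁻¹ H g ⊆ H`. -/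
theorem conj_inv_mem_of_finite {G : Type*} [Group G] (H : Subgroup G) [Finite H] (g : G)
    (h : ∀ u ∈ H, g * u * g⁻¹ ∈ H) : ∀ u ∈ H, g⁻¹ * u * g ∈ H := by
  intro u hu
  let f : H → H := fun v => ⟨g * v * g⁻¹, h v v.2⟩
  have hinj : Function.Injective f := by
    intro a b hab
    have h1 : g * (a : G) * g⁻¹ = g * (b : G) * g⁻¹ := congrArg Subtype.val hab
    exact Subtype.ext (by simpa using h1)
  obtain ⟨v, hv⟩ := Finite.surjective_of_injective hinj ⟨u, hu⟩
  have hv' : g * (v : G) * g⁻¹ = u := congrArg Subtype.val hv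
  rw [← hv']
  have e : g⁻¹ * (g * (v : G) * g⁻¹) * g = v := by group
  rw [e]
  exact v.2

/-- a representation applied to a fixed vector after conjugation -/
theorem rho_mul_fix {G : Type*} [Group G] {V : Type*} [AddCommGroup V] [Module ℂ V]
    (ρ : Representation ℂ G V) (u g : G) (x : V) (h : ρ (g⁻¹ * u * g) x = x) :
    ρ u (ρ g x) = ρ g x := by
  have e : u * g = g * (g⁻¹ * u * g) := by group
  calc ρ u (ρ g x) = ρ (u * g) x := by rw [map_mul]; rfl
    _ = ρ (g * (g⁻¹ * u * g)) x := by rw [← e]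
    _ = ρ g (ρ (g⁻¹ * u * g) x) := by rw [map_mul]; rfl
    _ = ρ g x := by rw [h]

section Mat

variable {n : ℕ} {F : Type u} [Field F] [Fintype F]

local notation "SLn" => Matrix.SpecialLinearGroup (Fin n) F

variable {V : Type*} [AddCommGroup V] [Module ℂ V] [Module.Finite ℂ V]

/-- `(x_j(c) ṡ_j)⁻¹` normalizes `uRad`. -/
theorem xs_conj_inv_mem (j : ℕ) (hj : j + 1 < n) (c : F) :
    ∀ u ∈ uRad n F j hj, (xel j hj c * sdot j hj)⁻¹ * u * (xel j hj c * sdot j hj) ∈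
      uRad n F j hj := by
  intro u hu
  haveI : Finite SLn := Subtype.finite
  haveI : Finite (uRad n F j hj) := inferInstance
  have h1 := conj_inv_mem_of_finite (uRad n F j hj) (xel j hj c)
    (Cfsg.Agent.Helper91.DZ.uRad_conj_xel j hj c) u hu
  have h2 := conj_inv_mem_of_finite (uRad n F j hj) (sdot j hj)
    (Cfsg.Agent.Helper91.DZ.uRad_conj_sdot j hj) _ h1
  have e : (xel j hj c * sdot j hj)⁻¹ * u * (xel j hj c * sdot j hj) =
      (sdot j hj)⁻¹ * ((xel j hj c)⁻¹ * u * xel j hj c) * sdot j hj := by group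
  rw [e]
  exact h2

/-- R3a: `ρ(x_j(c) ṡ_j)` maps `V^U` into `V^{uRad}`. -/
theorem xs_mem_Y (ρ : Representation ℂ SLn V) (j : ℕ) (hj : j + 1 < n) (c : F) :
    ∀ x ∈ fixS ρ ((UniS n F : Subgroup SLn) : Set SLn),
      ρ (xel j hj c * sdot j hj) x ∈ fixS ρ ((uRad n F j hj : Subgroup SLn) : Set SLn) := by
  intro x hx u hu
  apply rho_mul_fix
  have h1 := xs_conj_inv_mem j hj c u hu
  exact hx _ (inf_le_left (a := UniS n F) h1)

/-- R3b: `∑ c, ρ(x_j(c) ṡ_j)` maps `V^U` into itself. -/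
theorem T_mem (ρ : Representation ℂ SLn V) (j : ℕ) (hj : j + 1 < n) :
    ∀ x ∈ fixS ρ ((UniS n F : Subgroup SLn) : Set SLn),
      ∑ c : F, ρ (xel j hj c * sdot j hj) x ∈ fixS ρ ((UniS n F : Subgroup SLn) : Set SLn) := by
  intro x hx u hu
  obtain ⟨u', hu', d, rfl⟩ := Cfsg.Agent.Helper70.DZ.uni_factor j hj u hu
  -- invariance under `x_j(d)`
  have hd : ρ (xel j hj d) (∑ c : F, ρ (xel j hj c * sdot j hj) x) =
      ∑ c : F, ρ (xel j hj c * sdot j hj) x := by
    rw [map_sum]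
    have h1 : ∀ c : F, ρ (xel j hj d) (ρ (xel j hj c * sdot j hj) x) =
        ρ (xel j hj (d + c) * sdot j hj) x := by
      intro c
      have e : xel j hj (d + c) * sdot j hj = xel j hj d * (xel j hj c * sdot j hj) := by
        rw [Cfsg.Agent.Helper91.DZ.xel_add, mul_assoc]
      rw [e, map_mul ρ (xel j hj d) (xel j hj c * sdot j hj)]
      rfl
    rw [Finset.sum_congr rfl (fun c _ => h1 c)]
    exact Fintype.sum_equiv (Equiv.addLeft d) _ _ (fun c => rfl)
  have hu'' : ρ u' (∑ c : F, ρ (xel j hj c * sdot j hj) x) =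
      ∑ c : F, ρ (xel j hj c * sdot j hj) x := by
    rw [map_sum]
    exact Finset.sum_congr rfl (fun c _ => xs_mem_Y ρ j hj c x hx u' hu')
  calc ρ (u' * xel j hj d) (∑ c : F, ρ (xel j hj c * sdot j hj) x)
      = ρ u' (ρ (xel j hj d) (∑ c : F, ρ (xel j hj c * sdot j hj) x)) := by
        rw [map_mul]; rfl
    _ = ∑ c : F, ρ (xel j hj c * sdot j hj) x := by rw [hd, hu'']

end Mat

end Cfsg.Agent.Helper33.DZ
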