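import Cfsg.Agent.Helper40.DZDefs
import Cfsg.Agent.Helper33.DZR3

set_option autoImplicit false

/-!
Pieces C4, R1, IRR, FC of CALL S4538 (helper40), by helper33.
-/

namespace Cfsg.Agent.Helper33.DZ

open Cfsg.Agent.Helper40.DZ Cfsg.Agent.Helper44.PSLn Matrix

universe u

section General

variable {G : Type*} [Group G] [Finite G] {V : Type*} [AddCommGroup V] [Module ℂ V]
  [Module.Finite ℂ V]

/-- R2c: an irreducible representation is spanned by the orbit of any nonzero vector. -/
theorem irr_span (ρ : Representation ℂ G V) (hirr : ρ.IsIrreducible) {x : V} (hx : x ≠ 0)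
    (v : V) : v ∈ Submodule.span ℂ (Set.range fun g : G => ρ g x) := by
  let σ : Subrepresentation ρ :=
    { toSubmodule := Submodule.span ℂ (Set.range fun g : G => ρ g x)
      apply_mem_toSubmodule := by
        intro h w hw
        induction hw using Submodule.span_induction with
        | mem y hy =>
          obtain ⟨g, rfl⟩ := hy
          apply Submodule.subset_span
          refine ⟨h * g, ?_⟩
          show ρ (h * g) x = ρ h (ρ g x)
          rw [map_mul]
          rfl
        | zero => rw [map_zero]; exact Submodule.zero_mem _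
        | add a b _ _ ha hb => rw [map_add]; exact Submodule.add_mem _ ha hb
        | smul c a _ ha => rw [map_smul]; exact Submodule.smul_mem _ c ha }
  haveI := hirr
  have hxσ : x ∈ σ.toSubmodule := by
    apply Submodule.subset_span
    refine ⟨1, ?_⟩
    show ρ 1 x = x
    rw [map_one]
    rfl
  rcases eq_bot_or_eq_top σ with h | h
  · exfalso
    rw [h] at hxσ
    exact hx ((Submodule.mem_bot ℂ).mp hxσ)
  · have h1 : v ∈ σ.toSubmodule := by
      rw [h]
      exact Submodule.mem_top
    exact h1

/-- Q1b: fixed space of a generated subgroup. -/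
theorem fixS_closure (ρ : Representation ℂ G V) (A : Set G) :
    fixS ρ (Subgroup.closure A : Set G) = fixS ρ A := by
  apply le_antisymm
  · intro v hv g hg
    exact hv g (Subgroup.subset_closure hg)
  · intro v hv g hg
    have hg' : g ∈ Subgroup.closure A := hg
    induction hg' using Subgroup.closure_induction with
    | mem y hy => exact hv y hy
    | one => rw [map_one]; rfl
    | mul a b _ _ ha hb =>
      rw [map_mul]
      show ρ a (ρ b v) = v
      rw [hb (by assumption), ha (by assumption)]
    | inv a _ ha =>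
      have h1 : ρ a v = v := ha (by assumption)
      have h2 : ρ a⁻¹ (ρ a v) = v := by
        have : ρ a⁻¹ (ρ a v) = ρ (a⁻¹ * a) v := by rw [map_mul]; rfl
        rw [this, inv_mul_cancel, map_one]
        rfl
      rw [h1] at h2
      exact h2

end General

section Mat

variable {n : ℕ} {F : Type u} [Field F]

local notation "SLn" => Matrix.SpecialLinearGroup (Fin n) F

/-- diagonal entries of a product of upper triangular matrices -/
theorem diag_mul_of_upper {X Y : Matrix (Fin n) (Fin n) F} (hX : X.BlockTriangular id)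
    (hY : Y.BlockTriangular id) (i : Fin n) : (X * Y) i i = X i i * Y i i := by
  rw [Matrix.mul_apply]
  apply Finset.sum_eq_single i
  · intro k _ hk
    rcases lt_or_gt_of_ne hk with h | h
    · rw [hX h, zero_mul]
    · rw [hY h, mul_zero]
  · intro h
    exact absurd (Finset.mem_univ i) h

theorem mem_borelSL_iff (b : SLn) :
    b ∈ borelSL n F ↔ (b : Matrix (Fin n) (Fin n) F).BlockTriangular id := Iff.rfl

variable [Fintype F]

/-- C4a: the Borel subgroup normalizes `U`. -/
theorem borel_conj_UniS : ∀ b ∈ borelSL n F, ∀ u ∈ UniS n F, b * u * b⁻¹ ∈ UniS n F := by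
  intro b hb u hu
  have hB : (b : Matrix (Fin n) (Fin n) F).BlockTriangular id := (mem_borelSL_iff b).mp hb
  have hB' : ((b⁻¹ : SLn) : Matrix (Fin n) (Fin n) F).BlockTriangular id :=
    (mem_borelSL_iff b⁻¹).mp ((borelSL n F).inv_mem hb)
  have hU : IsUni (u : Matrix (Fin n) (Fin n) F) := (mem_UniS u).mp hu
  have hUt : (u : Matrix (Fin n) (Fin n) F).BlockTriangular id := fun i j hij => hU.1 i j hij
  rw [mem_UniS]
  have hc : ((b * u * b⁻¹ : SLn) : Matrix (Fin n) (Fin n) F) =
      (b : Matrix (Fin n) (Fin n) F) * (u : Matrix (Fin n) (Fin n) F) *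
        ((b⁻¹ : SLn) : Matrix (Fin n) (Fin n) F) := by
    rw [Matrix.SpecialLinearGroup.coe_mul, Matrix.SpecialLinearGroup.coe_mul]
  rw [hc]
  have hBU : ((b : Matrix (Fin n) (Fin n) F) * (u : Matrix (Fin n) (Fin n) F)).BlockTriangular id :=
    hB.mul hUt
  refine ⟨fun i j hij => (hBU.mul hB') hij, fun i => ?_⟩
  rw [diag_mul_of_upper hBU hB', diag_mul_of_upper hB hUt, hU.2 i, mul_one,
    ← diag_mul_of_upper hB hB']
  have h1 : (b : Matrix (Fin n) (Fin n) F) * ((b⁻¹ : SLn) : Matrix (Fin n) (Fin n) F) = 1 := by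
    rw [← Matrix.SpecialLinearGroup.coe_mul, mul_inv_cancel, Matrix.SpecialLinearGroup.coe_one]
  rw [h1, Matrix.one_apply_eq]

/-- C4b -/
theorem UniS_le_borel : UniS n F ≤ borelSL n F := by
  intro u hu
  have hU : IsUni (u : Matrix (Fin n) (Fin n) F) := (mem_UniS u).mp hu
  exact (mem_borelSL_iff u).mpr (fun i j hij => hU.1 i j hij)

variable {V : Type*} [AddCommGroup V] [Module ℂ V] [Module.Finite ℂ V]

/-- R1: `V^U` is stable under the Borel subgroup. -/
theorem borel_stable (ρ : Representation ℂ SLn V) :
    ∀ b ∈ borelSL n F, ∀ x ∈ fixS ρ ((UniS n F : Subgroup SLn) : Set SLn),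
      ρ b x ∈ fixS ρ ((UniS n F : Subgroup SLn) : Set SLn) := by
  intro b hb x hx u hu
  apply rho_mul_fix
  have h1 := borel_conj_UniS b⁻¹ ((borelSL n F).inv_mem hb) u hu
  rw [inv_inv] at h1
  exact hx _ h1

end Mat

end Cfsg.Agent.Helper33.DZ
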