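import Cfsg.Agent.Helper33.DZAV
import Cfsg.Agent.Helper33.DZR3

set_option autoImplicit false

/-!
Piece R2b of CALL S4538 (helper40), by helper33: the `uRad`-average of a `U_α`-fixed vector is
`U`-fixed.
-/

namespace Cfsg.Agent.Helper33.DZ

open Cfsg.Agent.Helper40.DZ Cfsg.Agent.Helper44.PSLn Matrix

universe u

section Mat

variable {n : ℕ} {F : Type u} [Field F] [Fintype F]

local notation "SLn" => Matrix.SpecialLinearGroup (Fin n) F

variable {V : Type*} [AddCommGroup V] [Module ℂ V] [Module.Finite ℂ V]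

/-- R2b: the `uRad`-average of a `U_α`-fixed vector is `U`-fixed. -/
theorem avg_uRad_fix (ρ : Representation ℂ SLn V) (j : ℕ) (hj : j + 1 < n) {v : V}
    (hv : ∀ c : F, ρ (xel j hj c) v = v) :
    avgL ρ (uRad n F j hj) v ∈ fixS ρ ((UniS n F : Subgroup SLn) : Set SLn) := by
  haveI : Finite SLn := Subtype.finite
  intro u hu
  obtain ⟨u', hu', c, rfl⟩ := Cfsg.Agent.Helper70.DZ.uni_factor j hj u hu
  have h1 : ρ (xel j hj c) (avgL ρ (uRad n F j hj) v) = avgL ρ (uRad n F j hj) v := by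
    rw [← avgL_conj ρ (uRad n F j hj) (xel j hj c)
      (Cfsg.Agent.Helper91.DZ.uRad_conj_xel j hj c) v, hv c]
  have h2 : ρ u' (avgL ρ (uRad n F j hj) v) = avgL ρ (uRad n F j hj) v :=
    avgL_mem ρ (uRad n F j hj) v u' hu'
  calc ρ (u' * xel j hj c) (avgL ρ (uRad n F j hj) v)
      = ρ u' (ρ (xel j hj c) (avgL ρ (uRad n F j hj) v)) := by rw [map_mul]; rfl
    _ = avgL ρ (uRad n F j hj) v := by rw [h1, h2]

end Mat

end Cfsg.Agent.Helper33.DZ
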