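import Cfsg.Agent.Helper33.DZAV
import Cfsg.Agent.Helper33.DZR3
import Cfsg.Agent.Helper33.DZR2b
import Cfsg.Agent.Helper33.DZR1
import Cfsg.Agent.Helper12.DZG1b

set_option autoImplicit false

/-!
Piece R2 of CALL S4538 (helper40), by helper33: for an irreducible representation with
`V^U ≠ 0`, the space `V^{uRad}` is spanned by `V^U` and the `ρ(x_j(c) ṡ_j) V^U`.
-/

namespace Cfsg.Agent.Helper33.DZ

open Cfsg.Agent.Helper40.DZ Cfsg.Agent.Helper44.PSLn Matrix

universe u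

theorem rho_mul {G : Type*} [Group G] {V : Type*} [AddCommGroup V] [Module ℂ V]
    (ρ : Representation ℂ G V) (a b : G) (v : V) : ρ (a * b) v = ρ a (ρ b v) := by
  rw [map_mul]
  rfl

section Mat

variable {n : ℕ} {F : Type u} [Field F] [Fintype F]

local notation "SLn" => Matrix.SpecialLinearGroup (Fin n) F

variable {V : Type*} [AddCommGroup V] [Module ℂ V] [Module.Finite ℂ V]

/-- the vectors of the form `x₀ + ∑ c, ρ(x_j(c) ṡ_j) (f c)` with `x₀, f c ∈ V^U` -/
def GenForm (ρ : Representation ℂ SLn V) (j : ℕ) (hj : j + 1 < n) (y : V) : Prop :=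
  ∃ x₀ ∈ fixS ρ ((UniS n F : Subgroup SLn) : Set SLn), ∃ f : F → V,
    (∀ c, f c ∈ fixS ρ ((UniS n F : Subgroup SLn) : Set SLn)) ∧
      y = x₀ + ∑ c : F, ρ (xel j hj c * sdot j hj) (f c)

theorem genForm_zero (ρ : Representation ℂ SLn V) (j : ℕ) (hj : j + 1 < n) :
    GenForm ρ j hj (0 : V) := by
  refine ⟨0, Submodule.zero_mem _, fun _ => 0, fun _ => Submodule.zero_mem _, ?_⟩
  simp

theorem genForm_add (ρ : Representation ℂ SLn V) (j : ℕ) (hj : j + 1 < n) {a b : V}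
    (ha : GenForm ρ j hj a) (hb : GenForm ρ j hj b) : GenForm ρ j hj (a + b) := by
  obtain ⟨x, hx, f, hf, rfl⟩ := ha
  obtain ⟨y, hy, g, hg, rfl⟩ := hb
  refine ⟨x + y, Submodule.add_mem _ hx hy, fun c => f c + g c,
    fun c => Submodule.add_mem _ (hf c) (hg c), ?_⟩
  simp only [map_add, Finset.sum_add_distrib]
  abel

theorem genForm_smul (ρ : Representation ℂ SLn V) (j : ℕ) (hj : j + 1 < n) (r : ℂ) {a : V}
    (ha : GenForm ρ j hj a) : GenForm ρ j hj (r • a) := by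
  obtain ⟨x, hx, f, hf, rfl⟩ := ha
  refine ⟨r • x, Submodule.smul_mem _ r hx, fun c => r • f c,
    fun c => Submodule.smul_mem _ r (hf c), ?_⟩
  simp only [map_smul, smul_add, Finset.smul_sum]

theorem genForm_of_mem (ρ : Representation ℂ SLn V) (j : ℕ) (hj : j + 1 < n) {w : V}
    (hw : w ∈ fixS ρ ((UniS n F : Subgroup SLn) : Set SLn)) : GenForm ρ j hj w := by
  refine ⟨w, hw, fun _ => 0, fun _ => Submodule.zero_mem _, ?_⟩
  simp

theorem genForm_xs (ρ : Representation ℂ SLn V) (j : ℕ) (hj : j + 1 < n) (c : F) {w : V}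
    (hw : w ∈ fixS ρ ((UniS n F : Subgroup SLn) : Set SLn)) :
    GenForm ρ j hj (ρ (xel j hj c * sdot j hj) w) := by
  classical
  refine ⟨0, Submodule.zero_mem _, fun d => if d = c then w else 0, fun d => ?_, ?_⟩
  · by_cases h : d = c
    · simp only [h, if_true]; exact hw
    · simp only [h, if_false]; exact Submodule.zero_mem _
  · rw [zero_add, Finset.sum_eq_single c]
    · simp
    · intro d _ hd
      simp [hd]
    · intro h
      exact absurd (Finset.mem_univ c) h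

/-- the `uRad`-average is invariant under translation by elements of `uRad` -/
theorem avgL_rho_uRad (ρ : Representation ℂ SLn V) (j : ℕ) (hj : j + 1 < n) {u' : SLn}
    (hu' : u' ∈ uRad n F j hj) (z : V) :
    avgL ρ (uRad n F j hj) (ρ u' z) = avgL ρ (uRad n F j hj) z := by
  haveI : Finite SLn := Subtype.finite
  rw [avgL_conj ρ (uRad n F j hj) u'
    (fun h hh => (uRad n F j hj).mul_mem ((uRad n F j hj).mul_mem hu' hh)
      ((uRad n F j hj).inv_mem hu')) z]
  exact avgL_mem ρ (uRad n F j hj) z u' hu'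

/-- `x_j(c) ṡ_j` normalizes `uRad`. -/
theorem xs_conj_mem (j : ℕ) (hj : j + 1 < n) (c : F) :
    ∀ h ∈ uRad n F j hj, (xel j hj c * sdot j hj) * h * (xel j hj c * sdot j hj)⁻¹ ∈
      uRad n F j hj := by
  intro h hh
  have h1 := Cfsg.Agent.Helper91.DZ.uRad_conj_sdot j hj h hh
  have h2 := Cfsg.Agent.Helper91.DZ.uRad_conj_xel j hj c _ h1
  have e : (xel j hj c * sdot j hj) * h * (xel j hj c * sdot j hj)⁻¹ =
      xel j hj c * (sdot j hj * h * (sdot j hj)⁻¹) * (xel j hj c)⁻¹ := by group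
  rw [e]
  exact h2

/-- the generator case of `gen` -/
theorem genForm_avg_orbit (ρ : Representation ℂ SLn V) (j : ℕ) (hj : j + 1 < n) {x₀ : V}
    (hx₀ : x₀ ∈ fixS ρ ((UniS n F : Subgroup SLn) : Set SLn)) (g : SLn) :
    GenForm ρ j hj (avgL ρ (uRad n F j hj) (ρ g x₀)) := by
  haveI : Finite SLn := Subtype.finite
  obtain ⟨u, hu, b, hb, m, hg, hm⟩ := Cfsg.Agent.Helper12.DZ.bruhat_min j hj g
  obtain ⟨u', hu', c, rfl⟩ := Cfsg.Agent.Helper70.DZ.uni_factor j hj u hu
  have hx₁ : ρ b x₀ ∈ fixS ρ ((UniS n F : Subgroup SLn) : Set SLn) :=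
    borel_stable ρ b hb x₀ hx₀
  have hv : ∀ d : F, ρ (xel j hj d) (ρ m (ρ b x₀)) = ρ m (ρ b x₀) := by
    intro d
    apply rho_mul_fix
    exact hx₁ _ (hm d)
  have hw : avgL ρ (uRad n F j hj) (ρ m (ρ b x₀)) ∈
      fixS ρ ((UniS n F : Subgroup SLn) : Set SLn) := avg_uRad_fix ρ j hj hv
  rcases hg with hg | hg
  · have e : ρ g x₀ = ρ u' (ρ m (ρ b x₀)) := by
      rw [hg, rho_mul, rho_mul, rho_mul, hv c]
    rw [e, avgL_rho_uRad ρ j hj hu']
    exact genForm_of_mem ρ j hj hw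
  · have e : ρ g x₀ = ρ u' (ρ (xel j hj c * sdot j hj) (ρ m (ρ b x₀))) := by
      have e1 : u' * xel j hj c * sdot j hj * m * b =
          u' * ((xel j hj c * sdot j hj) * (m * b)) := by group
      rw [hg, e1, rho_mul ρ u', rho_mul ρ (xel j hj c * sdot j hj), rho_mul ρ m]
    rw [e, avgL_rho_uRad ρ j hj hu',
      avgL_conj ρ (uRad n F j hj) (xel j hj c * sdot j hj) (xs_conj_mem j hj c)]
    exact genForm_xs ρ j hj c hw

/-- R2: `V^{uRad}` is spanned by `V^U` and the `ρ(x_j(c) ṡ_j) V^U` (irreducible `ρ`). -/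
theorem gen (ρ : Representation ℂ SLn V) (hirr : ρ.IsIrreducible) (j : ℕ) (hj : j + 1 < n)
    (hE : ∃ x ∈ fixS ρ ((UniS n F : Subgroup SLn) : Set SLn), x ≠ 0) :
    ∀ y ∈ fixS ρ ((uRad n F j hj : Subgroup SLn) : Set SLn),
      ∃ x₀ ∈ fixS ρ ((UniS n F : Subgroup SLn) : Set SLn), ∃ f : F → V,
        (∀ c, f c ∈ fixS ρ ((UniS n F : Subgroup SLn) : Set SLn)) ∧
          y = x₀ + ∑ c : F, ρ (xel j hj c * sdot j hj) (f c) := by
  haveI : Finite SLn := Subtype.finite
  intro y hy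
  obtain ⟨x₀, hx₀, hx₀ne⟩ := hE
  have hspan := irr_span ρ hirr hx₀ne y
  have key : ∀ z ∈ Submodule.span ℂ (Set.range fun g : SLn => ρ g x₀),
      GenForm ρ j hj (avgL ρ (uRad n F j hj) z) := by
    intro z hz
    induction hz using Submodule.span_induction with
    | mem w hw =>
      obtain ⟨g, rfl⟩ := hw
      exact genForm_avg_orbit ρ j hj hx₀ g
    | zero => rw [map_zero]; exact genForm_zero ρ j hj
    | add a b _ _ ha hb => rw [map_add]; exact genForm_add ρ j hj ha hb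
    | smul r a _ ha => rw [map_smul]; exact genForm_smul ρ j hj r ha
  have h1 := key y hspan
  rw [avgL_of_mem ρ (uRad n F j hj) hy] at h1
  exact h1

end Mat

end Cfsg.Agent.Helper33.DZ
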