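import Mathlib
import Cfsg.Agent.Helper90.HTDefs
import Cfsg.Agent.Helper44.Unitary

set_option autoImplicit false
set_option linter.unusedSectionVars false
set_option linter.unusedVariables false

namespace Cfsg.Agent.Helper33.HT5953

open Module Polynomial Cfsg.Agent.Helper90.HT

section geom

variable {F : Type*} [Field F] {V : Type*} [AddCommGroup V] [Module F V] [FiniteDimensional F V]
  (σ : F →+* F) (h : V → V → F)

/-- HISO: isotropic vectors exist in dimension ≥ 2 (norm is surjective). -/
theorem ht_iso [Fintype F] (q : ℕ) (hq : Fintype.card F = q ^ 2) (hσ : ∀ a, σ a = a ^ q)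
    (hh : IsHerm σ h) (U : Submodule F V) (hU : 2 ≤ finrank F U) :
    ∃ v ∈ U, v ≠ 0 ∧ h v v = 0 := by
  have hUbot : U ≠ ⊥ := by
    intro hb
    rw [hb, finrank_bot] at hU
    omega
  obtain ⟨u, huU, hu0⟩ := Submodule.exists_mem_ne_zero_of_ne_bot hUbot
  by_cases huu : h u u = 0
  · exact ⟨u, huU, hu0, huu⟩
  -- the functional `w ↦ h w u` on `U`
  let φ : U →ₗ[F] F :=
    { toFun := fun w => h (w : V) u
      map_add' := fun a b => by simpa using hh.add_left (a : V) (b : V) u
      map_smul' := fun c a => by simpa using hh.smul_left c (a : V) u }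
  have hker : LinearMap.ker φ ≠ ⊥ := by
    intro hb
    have h1 := LinearMap.finrank_range_add_finrank_ker φ
    rw [hb, finrank_bot, add_zero] at h1
    have h2 : finrank F (LinearMap.range φ) ≤ finrank F F := Submodule.finrank_le _
    rw [Module.finrank_self] at h2
    omega
  obtain ⟨w, hwk, hw0⟩ := Submodule.exists_mem_ne_zero_of_ne_bot hker
  have hwu : h (w : V) u = 0 := LinearMap.mem_ker.mp hwk
  have hw0' : (w : V) ≠ 0 := fun h0 => hw0 (Subtype.ext h0)
  by_cases hww : h (w : V) (w : V) = 0
  · exact ⟨w, w.2, hw0', hww⟩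
  have hfu : σ (h u u) = h u u := (hh.symm u u).symm
  have hfw : σ (h (w : V) (w : V)) = h (w : V) (w : V) := (hh.symm (w : V) (w : V)).symm
  set a := -h u u / h (w : V) (w : V) with ha
  have hσa : a ^ q = a := by
    rw [← hσ, ha, map_div₀, map_neg, hfu, hfw]
  obtain ⟨t, ht⟩ := Cfsg.Agent.Helper44.exists_norm hq a hσa
  have huw : h u (w : V) = 0 := hh.eq_zero_symm hwu
  refine ⟨u + t • (w : V), U.add_mem huU (U.smul_mem t w.2), ?_, ?_⟩
  · intro h0
    have h1 : h (u + t • (w : V)) u = h u u := by
      rw [hh.add_left, hh.smul_left, hwu, mul_zero, add_zero]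
    rw [h0, hh.zero_left] at h1
    exact huu h1.symm
  · rw [hh.add_left, hh.add_right, hh.add_right, hh.smul_left, hh.smul_left, hh.smul_right,
      hh.smul_right, huw, hwu, hσ t, mul_zero, mul_zero, add_zero, zero_add, ← mul_assoc, ht, ha]
    field_simp
    ring

end geom

end Cfsg.Agent.Helper33.HT5953
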