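import Mathlib

/-!
# helper33 library: piece FIX of helper6's CALL S1159

Counting the fixed points of an involution on `G ⧸ B` in a group with a "BN-pair of rank one"
shape `G = B ∪ U n B`.
-/

set_option autoImplicit false

namespace Cfsg.Agent.Helper33

/-- PIECE FIX -/
theorem card_fixed_involution {G : Type*} [Group G] [Finite G] (B U : Subgroup G) (n a : G)
    (f : ℕ) (hUB : U ≤ B) (hnB : n ∉ B)
    (hBr : ∀ g : G, g ∉ B → ∃ u ∈ U, ∃ b ∈ B, g = u * n * b)
    (hUn : ∀ u ∈ U, n⁻¹ * u * n ∈ B → u = 1)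
    (haB : a ∈ B) (han : n⁻¹ * a * n ∈ B)
    (haU : ∀ u ∈ U, a⁻¹ * u * a ∈ U)
    (hcard : Nat.card {u : G // u ∈ U ∧ u * a = a * u} = f)
    (hconj : ∀ t : G, t ≠ 1 → t * t = 1 → ∃ y : G, y * t * y⁻¹ = a) :
    ∀ t : G, t ≠ 1 → t * t = 1 → Nat.card {ω : G ⧸ B // t • ω = ω} = f + 1 := by
  classical
  have hsm : ∀ g h : G, g • (QuotientGroup.mk h : G ⧸ B) = QuotientGroup.mk (g * h) :=
    fun g h => rfl
  have hfixun : ∀ u ∈ U, (a • (QuotientGroup.mk (u * n) : G ⧸ B) = QuotientGroup.mk (u * n) ↔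
      u * a = a * u) := by
    intro u hu
    rw [hsm, QuotientGroup.eq]
    have hc : a⁻¹ * u⁻¹ * a * u ∈ U := U.mul_mem (haU _ (U.inv_mem hu)) hu
    have e : (a * (u * n))⁻¹ * (u * n)
        = (n⁻¹ * (a⁻¹ * u⁻¹ * a * u)⁻¹ * n) * (n⁻¹ * a * n)⁻¹ := by group
    rw [e]
    constructor
    · intro h
      have h1 : n⁻¹ * (a⁻¹ * u⁻¹ * a * u)⁻¹ * n ∈ B := by
        have h0 := B.mul_mem h han
        rwa [inv_mul_cancel_right] at h0
      have h2 := hUn _ (U.inv_mem hc) h1
      have h3 : a⁻¹ * u⁻¹ * a * u = 1 := inv_eq_one.1 h2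
      calc u * a = u * a * (a⁻¹ * u⁻¹ * a * u) := by rw [h3, mul_one]
        _ = a * u := by group
    · intro h
      have h3 : a⁻¹ * u⁻¹ * a * u = 1 := by
        calc a⁻¹ * u⁻¹ * a * u = a⁻¹ * u⁻¹ * (a * u) := by group
          _ = a⁻¹ * u⁻¹ * (u * a) := by rw [h]
          _ = 1 := by group
      rw [h3]
      have h4 : n⁻¹ * (1 : G)⁻¹ * n * (n⁻¹ * a * n)⁻¹ = (n⁻¹ * a * n)⁻¹ := by group
      rw [h4]
      exact B.inv_mem han
  have hA : Nat.card {ω : G ⧸ B // a • ω = ω} = f + 1 := by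
    let φ : Option {u : G // u ∈ U ∧ u * a = a * u} → {ω : G ⧸ B // a • ω = ω} := fun o =>
      match o with
      | none => ⟨QuotientGroup.mk 1, by
          rw [hsm, QuotientGroup.eq]
          have h4 : (a * 1)⁻¹ * 1 = a⁻¹ := by group
          rw [h4]; exact B.inv_mem haB⟩
      | some u => ⟨QuotientGroup.mk (u.1 * n), (hfixun u.1 u.2.1).2 u.2.2⟩
    have hφinj : Function.Injective φ := by
      intro o1 o2 h
      cases o1 with
      | none =>
        cases o2 with
        | none => rfl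
        | some u2 =>
          exfalso
          have h' : (QuotientGroup.mk 1 : G ⧸ B) = QuotientGroup.mk (u2.1 * n) :=
            congrArg Subtype.val h
          rw [QuotientGroup.eq] at h'
          apply hnB
          have h5 := B.mul_mem (B.inv_mem (hUB u2.2.1)) h'
          have h6 : u2.1⁻¹ * ((1 : G)⁻¹ * (u2.1 * n)) = n := by group
          rwa [h6] at h5
      | some u1 =>
        cases o2 with
        | none =>
          exfalso
          have h' : (QuotientGroup.mk (u1.1 * n) : G ⧸ B) = QuotientGroup.mk 1 :=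
            congrArg Subtype.val h
          rw [QuotientGroup.eq] at h'
          apply hnB
          have h5 := B.inv_mem (B.mul_mem h' (hUB u1.2.1))
          have h6 : ((u1.1 * n)⁻¹ * 1 * u1.1)⁻¹ = u1.1⁻¹ * u1.1 * n := by group
          rw [h6] at h5
          simpa using h5
        | some u2 =>
          have h' : (QuotientGroup.mk (u1.1 * n) : G ⧸ B) = QuotientGroup.mk (u2.1 * n) :=
            congrArg Subtype.val h
          rw [QuotientGroup.eq] at h'
          have e : (u1.1 * n)⁻¹ * (u2.1 * n) = n⁻¹ * (u1.1⁻¹ * u2.1) * n := by group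
          rw [e] at h'
          have h7 := hUn _ (U.mul_mem (U.inv_mem u1.2.1) u2.2.1) h'
          have h8 : u1.1 = u2.1 := inv_mul_eq_one.1 h7
          exact congrArg some (Subtype.ext h8)
    have hφsurj : Function.Surjective φ := by
      rintro ⟨ω, hω⟩
      induction ω using QuotientGroup.induction_on with
      | H g =>
        by_cases hg : g ∈ B
        · refine ⟨none, Subtype.ext ?_⟩
          show (QuotientGroup.mk 1 : G ⧸ B) = QuotientGroup.mk g
          rw [QuotientGroup.eq]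
          simpa using hg
        · obtain ⟨u, hu, b, hb, rfl⟩ := hBr g hg
          have e : (QuotientGroup.mk (u * n * b) : G ⧸ B) = QuotientGroup.mk (u * n) := by
            rw [QuotientGroup.eq]
            have h9 : (u * n * b)⁻¹ * (u * n) = b⁻¹ := by group
            rw [h9]; exact B.inv_mem hb
          have hω' : a • (QuotientGroup.mk (u * n) : G ⧸ B) = QuotientGroup.mk (u * n) := by
            rw [← e]; exact hω
          refine ⟨some ⟨u, hu, (hfixun u hu).1 hω'⟩, Subtype.ext ?_⟩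
          exact e.symm
    have h10 := Nat.card_congr (Equiv.ofBijective φ ⟨hφinj, hφsurj⟩)
    rw [Finite.card_option, hcard] at h10
    exact h10.symm
  intro t ht1 ht2
  obtain ⟨y, hy⟩ := hconj t ht1 ht2
  rw [← hA]
  refine Nat.card_congr ⟨fun ω => ⟨y • ω.1, ?_⟩, fun ω => ⟨y⁻¹ • ω.1, ?_⟩, ?_, ?_⟩
  · rw [← hy, ← mul_smul]
    have h11 : y * t * y⁻¹ * y = y * t := by group
    rw [h11, mul_smul, ω.2]
  · obtain ⟨ω, hω⟩ := ω
    rw [← hy] at hω
    show t • y⁻¹ • ω = y⁻¹ • ω
    rw [← mul_smul]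
    have h12 : t * y⁻¹ = y⁻¹ * (y * t * y⁻¹) := by group
    rw [h12, mul_smul, hω]
  · intro ω; apply Subtype.ext; simp
  · intro ω; apply Subtype.ext; simp

end Cfsg.Agent.Helper33
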