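import Mathlib

/-!
# helper33 library: piece TP of helper6's CALL S1159

Two-point stabilisers on `G ⧸ B` in a group with `G = B ∪ B n B` are conjugates of
`D = B ∩ n B n⁻¹`.
-/

set_option autoImplicit false

namespace Cfsg.Agent.Helper33

/-- the two-point stabiliser of `x ≠ y` in `G ⧸ B` is a conjugate of `D` -/
theorem two_point_stabilizer_conj {G : Type*} [Group G] (B D : Subgroup G) (n : G)
    (hBr : ∀ g : G, g ∉ B → ∃ u ∈ B, ∃ b ∈ B, g = u * n * b)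
    (hDB : D ≤ B) (hDn : ∀ t ∈ D, n⁻¹ * t * n ∈ B)
    (hD : ∀ t ∈ B, n⁻¹ * t * n ∈ B → t ∈ D) :
    ∀ x y : G ⧸ B, x ≠ y → ∃ c : G, ∀ t : G,
      t ∈ MulAction.stabilizer G x ⊓ MulAction.stabilizer G y ↔ c⁻¹ * t * c ∈ D := by
  intro x y hxy
  induction x using QuotientGroup.induction_on with
  | H g =>
  induction y using QuotientGroup.induction_on with
  | H g' =>
  have hgg : g⁻¹ * g' ∉ B := fun h => hxy (QuotientGroup.eq.2 h)
  obtain ⟨u, hu, b, hb, hub⟩ := hBr _ hgg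
  refine ⟨g * u, fun t => ?_⟩
  have hx : (QuotientGroup.mk g : G ⧸ B) = QuotientGroup.mk (g * u) := by
    rw [QuotientGroup.eq]
    have h1 : g⁻¹ * (g * u) = u := by group
    rw [h1]; exact hu
  have hy : (QuotientGroup.mk g' : G ⧸ B) = QuotientGroup.mk (g * u * n) := by
    rw [QuotientGroup.eq]
    have h1 : g' = g * (u * n * b) := by rw [← hub]; group
    have h2 : g'⁻¹ * (g * u * n) = b⁻¹ := by rw [h1]; group
    rw [h2]; exact B.inv_mem hb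
  rw [hx, hy, Subgroup.mem_inf, MulAction.mem_stabilizer_iff, MulAction.mem_stabilizer_iff]
  have hsm : ∀ h k : G, h • (QuotientGroup.mk k : G ⧸ B) = QuotientGroup.mk (h * k) :=
    fun _ _ => rfl
  rw [hsm, hsm, QuotientGroup.eq, QuotientGroup.eq]
  have e1 : (t * (g * u))⁻¹ * (g * u) = ((g * u)⁻¹ * t * (g * u))⁻¹ := by group
  have e2 : (t * (g * u * n))⁻¹ * (g * u * n) = (n⁻¹ * ((g * u)⁻¹ * t * (g * u)) * n)⁻¹ := by
    group
  rw [e1, e2, inv_mem_iff, inv_mem_iff]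
  constructor
  · rintro ⟨h1, h2⟩; exact hD _ h1 h2
  · intro h; exact ⟨hDB h, hDn _ h⟩

/-- PIECE TP -/
theorem two_point_stabilizer_facts {G : Type*} [Group G] [Finite G] (B D : Subgroup G) (n a : G)
    (hBr : ∀ g : G, g ∉ B → ∃ u ∈ B, ∃ b ∈ B, g = u * n * b)
    (hDB : D ≤ B) (hDn : ∀ t ∈ D, n⁻¹ * t * n ∈ B)
    (hD : ∀ t ∈ B, n⁻¹ * t * n ∈ B → t ∈ D)
    (haD : a ∈ D) (ha1 : a ≠ 1) (ha2 : a * a = 1)
    (hau : ∀ t ∈ D, t ≠ 1 → t * t = 1 → t = a) :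
    (∀ x y : G ⧸ B, x ≠ y →
      Nat.card ↥(MulAction.stabilizer G x ⊓ MulAction.stabilizer G y) = Nat.card D) ∧
    (∀ x y : G ⧸ B, x ≠ y →
      ∃ t ∈ MulAction.stabilizer G x ⊓ MulAction.stabilizer G y, t ≠ 1 ∧ t * t = 1) ∧
    (∀ x y : G ⧸ B, x ≠ y →
      ∀ t ∈ MulAction.stabilizer G x ⊓ MulAction.stabilizer G y,
      ∀ t' ∈ MulAction.stabilizer G x ⊓ MulAction.stabilizer G y,
        t ≠ 1 → t * t = 1 → t' ≠ 1 → t' * t' = 1 → t = t') := by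
  have key := two_point_stabilizer_conj B D n hBr hDB hDn hD
  have hinv : ∀ c t : G, t ≠ 1 → t * t = 1 →
      c⁻¹ * t * c ≠ 1 ∧ c⁻¹ * t * c * (c⁻¹ * t * c) = 1 := by
    intro c t ht1 ht2
    constructor
    · intro h; apply ht1
      have h3 : t = c * (c⁻¹ * t * c) * c⁻¹ := by group
      rw [h3, h]; group
    · calc c⁻¹ * t * c * (c⁻¹ * t * c) = c⁻¹ * (t * t) * c := by group
        _ = 1 := by rw [ht2]; group
  refine ⟨?_, ?_, ?_⟩
  · intro x y hxy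
    obtain ⟨c, hc⟩ := key x y hxy
    refine Nat.card_congr ⟨fun t => ⟨c⁻¹ * t.1 * c, (hc t.1).1 t.2⟩,
      fun s => ⟨c * s.1 * c⁻¹, (hc _).2 ?_⟩, ?_, ?_⟩
    · have h3 : c⁻¹ * (c * s.1 * c⁻¹) * c = s.1 := by group
      rw [h3]; exact s.2
    · intro t; apply Subtype.ext
      show c * (c⁻¹ * t.1 * c) * c⁻¹ = t.1
      group
    · intro s; apply Subtype.ext
      show c⁻¹ * (c * s.1 * c⁻¹) * c = s.1
      group
  · intro x y hxy
    obtain ⟨c, hc⟩ := key x y hxy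
    refine ⟨c * a * c⁻¹, (hc _).2 ?_, ?_, ?_⟩
    · have h3 : c⁻¹ * (c * a * c⁻¹) * c = a := by group
      rw [h3]; exact haD
    · intro h
      apply ha1
      have h3 : a = c⁻¹ * (c * a * c⁻¹) * c := by group
      rw [h3, h]; group
    · calc c * a * c⁻¹ * (c * a * c⁻¹) = c * (a * a) * c⁻¹ := by group
        _ = 1 := by rw [ha2]; group
  · intro x y hxy t ht t' ht' ht1 ht2 ht1' ht2'
    obtain ⟨c, hc⟩ := key x y hxy
    have h1 : c⁻¹ * t * c = a :=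
      hau _ ((hc t).1 ht) (hinv c t ht1 ht2).1 (hinv c t ht1 ht2).2
    have h2 : c⁻¹ * t' * c = a :=
      hau _ ((hc t').1 ht') (hinv c t' ht1' ht2').1 (hinv c t' ht1' ht2').2
    calc t = c * (c⁻¹ * t * c) * c⁻¹ := by group
      _ = c * (c⁻¹ * t' * c) * c⁻¹ := by rw [h1, h2]
      _ = t' := by group

end Cfsg.Agent.Helper33
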