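-- helper33 library: data for piece E5c of the S5778 call: the 120 elements of SO_3(5), as a
-- spanning tree of the Cayley graph on the generators `D25.a4`, `D25.b5` of helper64's data file,
-- and the enumeration of the orthogonal matrices of determinant 1 over `ZMod 5`.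
-- Machine generated; all facts are checked by the kernel via `decide`.
import Cfsg.Agent.Helper64.SU3Data25

set_option autoImplicit false
set_option maxRecDepth 100000
open Matrix

namespace Cfsg.Agent.Helper33.SO3

open Cfsg.Agent.Helper64.SU3

def so3L : List (Matrix (Fin 3) (Fin 3) K25) := [!![⟨1, 0⟩, ⟨0, 0⟩, ⟨0, 0⟩; ⟨0, 0⟩, ⟨1, 0⟩, ⟨0, 0⟩; ⟨0, 0⟩, ⟨0, 0⟩, ⟨1, 0⟩],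
  !![⟨0, 0⟩, ⟨0, 0⟩, ⟨1, 0⟩; ⟨0, 0⟩, ⟨1, 0⟩, ⟨0, 0⟩; ⟨4, 0⟩, ⟨0, 0⟩, ⟨0, 0⟩],
  !![⟨1, 0⟩, ⟨1, 0⟩, ⟨3, 0⟩; ⟨4, 0⟩, ⟨3, 0⟩, ⟨1, 0⟩; ⟨2, 0⟩, ⟨1, 0⟩, ⟨4, 0⟩],
  !![⟨4, 0⟩, ⟨0, 0⟩, ⟨0, 0⟩; ⟨0, 0⟩, ⟨1, 0⟩, ⟨0, 0⟩; ⟨0, 0⟩, ⟨0, 0⟩, ⟨4, 0⟩],
  !![⟨2, 0⟩, ⟨1, 0⟩, ⟨1, 0⟩; ⟨4, 0⟩, ⟨3, 0⟩, ⟨4, 0⟩; ⟨1, 0⟩, ⟨1, 0⟩, ⟨2, 0⟩],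
  !![⟨2, 0⟩, ⟨1, 0⟩, ⟨4, 0⟩; ⟨4, 0⟩, ⟨3, 0⟩, ⟨1, 0⟩; ⟨4, 0⟩, ⟨4, 0⟩, ⟨2, 0⟩],
  !![⟨1, 0⟩, ⟨2, 0⟩, ⟨1, 0⟩; ⟨3, 0⟩, ⟨4, 0⟩, ⟨4, 0⟩; ⟨4, 0⟩, ⟨4, 0⟩, ⟨3, 0⟩],
  !![⟨0, 0⟩, ⟨0, 0⟩, ⟨4, 0⟩; ⟨0, 0⟩, ⟨1, 0⟩, ⟨0, 0⟩; ⟨1, 0⟩, ⟨0, 0⟩, ⟨0, 0⟩],
  !![⟨4, 0⟩, ⟨1, 0⟩, ⟨2, 0⟩; ⟨1, 0⟩, ⟨3, 0⟩, ⟨4, 0⟩; ⟨3, 0⟩, ⟨1, 0⟩, ⟨1, 0⟩],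
  !![⟨1, 0⟩, ⟨1, 0⟩, ⟨2, 0⟩; ⟨4, 0⟩, ⟨3, 0⟩, ⟨4, 0⟩; ⟨3, 0⟩, ⟨4, 0⟩, ⟨4, 0⟩],
  !![⟨4, 0⟩, ⟨2, 0⟩, ⟨1, 0⟩; ⟨1, 0⟩, ⟨4, 0⟩, ⟨3, 0⟩; ⟨2, 0⟩, ⟨4, 0⟩, ⟨4, 0⟩],
  !![⟨4, 0⟩, ⟨4, 0⟩, ⟨2, 0⟩; ⟨4, 0⟩, ⟨3, 0⟩, ⟨1, 0⟩; ⟨3, 0⟩, ⟨4, 0⟩, ⟨1, 0⟩],
  !![⟨3, 0⟩, ⟨1, 0⟩, ⟨1, 0⟩; ⟨4, 0⟩, ⟨2, 0⟩, ⟨1, 0⟩; ⟨4, 0⟩, ⟨1, 0⟩, ⟨2, 0⟩],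
  !![⟨4, 0⟩, ⟨4, 0⟩, ⟨3, 0⟩; ⟨3, 0⟩, ⟨4, 0⟩, ⟨4, 0⟩; ⟨4, 0⟩, ⟨3, 0⟩, ⟨4, 0⟩],
  !![⟨1, 0⟩, ⟨3, 0⟩, ⟨4, 0⟩; ⟨2, 0⟩, ⟨4, 0⟩, ⟨4, 0⟩; ⟨1, 0⟩, ⟨4, 0⟩, ⟨3, 0⟩],
  !![⟨3, 0⟩, ⟨1, 0⟩, ⟨4, 0⟩; ⟨1, 0⟩, ⟨3, 0⟩, ⟨1, 0⟩; ⟨4, 0⟩, ⟨1, 0⟩, ⟨3, 0⟩],
  !![⟨3, 0⟩, ⟨1, 0⟩, ⟨1, 0⟩; ⟨1, 0⟩, ⟨3, 0⟩, ⟨4, 0⟩; ⟨1, 0⟩, ⟨4, 0⟩, ⟨3, 0⟩],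
  !![⟨4, 0⟩, ⟨2, 0⟩, ⟨4, 0⟩; ⟨2, 0⟩, ⟨4, 0⟩, ⟨1, 0⟩; ⟨1, 0⟩, ⟨4, 0⟩, ⟨2, 0⟩],
  !![⟨3, 0⟩, ⟨4, 0⟩, ⟨4, 0⟩; ⟨4, 0⟩, ⟨3, 0⟩, ⟨4, 0⟩; ⟨4, 0⟩, ⟨4, 0⟩, ⟨3, 0⟩],
  !![⟨4, 0⟩, ⟨1, 0⟩, ⟨3, 0⟩; ⟨4, 0⟩, ⟨2, 0⟩, ⟨4, 0⟩; ⟨3, 0⟩, ⟨1, 0⟩, ⟨4, 0⟩],
  !![⟨2, 0⟩, ⟨4, 0⟩, ⟨4, 0⟩; ⟨1, 0⟩, ⟨4, 0⟩, ⟨3, 0⟩; ⟨1, 0⟩, ⟨3, 0⟩, ⟨4, 0⟩],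
  !![⟨1, 0⟩, ⟨3, 0⟩, ⟨1, 0⟩; ⟨1, 0⟩, ⟨4, 0⟩, ⟨2, 0⟩; ⟨2, 0⟩, ⟨4, 0⟩, ⟨1, 0⟩],
  !![⟨3, 0⟩, ⟨4, 0⟩, ⟨1, 0⟩; ⟨4, 0⟩, ⟨3, 0⟩, ⟨1, 0⟩; ⟨1, 0⟩, ⟨1, 0⟩, ⟨3, 0⟩],
  !![⟨2, 0⟩, ⟨4, 0⟩, ⟨1, 0⟩; ⟨1, 0⟩, ⟨4, 0⟩, ⟨2, 0⟩; ⟨4, 0⟩, ⟨2, 0⟩, ⟨4, 0⟩],
  !![⟨4, 0⟩, ⟨1, 0⟩, ⟨2, 0⟩; ⟨4, 0⟩, ⟨2, 0⟩, ⟨1, 0⟩; ⟨2, 0⟩, ⟨4, 0⟩, ⟨4, 0⟩],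
  !![⟨4, 0⟩, ⟨1, 0⟩, ⟨3, 0⟩; ⟨3, 0⟩, ⟨1, 0⟩, ⟨4, 0⟩; ⟨1, 0⟩, ⟨3, 0⟩, ⟨1, 0⟩],
  !![⟨4, 0⟩, ⟨3, 0⟩, ⟨4, 0⟩; ⟨3, 0⟩, ⟨4, 0⟩, ⟨4, 0⟩; ⟨1, 0⟩, ⟨1, 0⟩, ⟨2, 0⟩],
  !![⟨4, 0⟩, ⟨2, 0⟩, ⟨4, 0⟩; ⟨4, 0⟩, ⟨1, 0⟩, ⟨3, 0⟩; ⟨2, 0⟩, ⟨4, 0⟩, ⟨1, 0⟩],
  !![⟨1, 0⟩, ⟨4, 0⟩, ⟨3, 0⟩; ⟨2, 0⟩, ⟨4, 0⟩, ⟨4, 0⟩; ⟨4, 0⟩, ⟨2, 0⟩, ⟨1, 0⟩],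
  !![⟨1, 0⟩, ⟨4, 0⟩, ⟨2, 0⟩; ⟨1, 0⟩, ⟨3, 0⟩, ⟨1, 0⟩; ⟨3, 0⟩, ⟨1, 0⟩, ⟨4, 0⟩],
  !![⟨4, 0⟩, ⟨1, 0⟩, ⟨3, 0⟩; ⟨1, 0⟩, ⟨3, 0⟩, ⟨1, 0⟩; ⟨2, 0⟩, ⟨4, 0⟩, ⟨1, 0⟩],
  !![⟨1, 0⟩, ⟨2, 0⟩, ⟨4, 0⟩; ⟨4, 0⟩, ⟨4, 0⟩, ⟨2, 0⟩; ⟨3, 0⟩, ⟨4, 0⟩, ⟨1, 0⟩],
  !![⟨1, 0⟩, ⟨4, 0⟩, ⟨3, 0⟩; ⟨1, 0⟩, ⟨3, 0⟩, ⟨4, 0⟩; ⟨2, 0⟩, ⟨4, 0⟩, ⟨4, 0⟩],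
  !![⟨2, 0⟩, ⟨1, 0⟩, ⟨4, 0⟩; ⟨1, 0⟩, ⟨2, 0⟩, ⟨4, 0⟩; ⟨1, 0⟩, ⟨1, 0⟩, ⟨3, 0⟩],
  !![⟨1, 0⟩, ⟨4, 0⟩, ⟨2, 0⟩; ⟨2, 0⟩, ⟨4, 0⟩, ⟨1, 0⟩; ⟨1, 0⟩, ⟨3, 0⟩, ⟨1, 0⟩],
  !![⟨4, 0⟩, ⟨3, 0⟩, ⟨1, 0⟩; ⟨3, 0⟩, ⟨4, 0⟩, ⟨1, 0⟩; ⟨4, 0⟩, ⟨4, 0⟩, ⟨2, 0⟩],
  !![⟨4, 0⟩, ⟨4, 0⟩, ⟨3, 0⟩; ⟨4, 0⟩, ⟨3, 0⟩, ⟨4, 0⟩; ⟨2, 0⟩, ⟨1, 0⟩, ⟨1, 0⟩],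
  !![⟨4, 0⟩, ⟨4, 0⟩, ⟨2, 0⟩; ⟨3, 0⟩, ⟨4, 0⟩, ⟨1, 0⟩; ⟨1, 0⟩, ⟨2, 0⟩, ⟨4, 0⟩],
  !![⟨3, 0⟩, ⟨1, 0⟩, ⟨4, 0⟩; ⟨4, 0⟩, ⟨2, 0⟩, ⟨4, 0⟩; ⟨1, 0⟩, ⟨4, 0⟩, ⟨2, 0⟩],
  !![⟨2, 0⟩, ⟨1, 0⟩, ⟨4, 0⟩; ⟨1, 0⟩, ⟨1, 0⟩, ⟨3, 0⟩; ⟨4, 0⟩, ⟨3, 0⟩, ⟨1, 0⟩],
  !![⟨1, 0⟩, ⟨3, 0⟩, ⟨4, 0⟩; ⟨1, 0⟩, ⟨4, 0⟩, ⟨3, 0⟩; ⟨3, 0⟩, ⟨1, 0⟩, ⟨1, 0⟩],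
  !![⟨1, 0⟩, ⟨2, 0⟩, ⟨4, 0⟩; ⟨2, 0⟩, ⟨1, 0⟩, ⟨4, 0⟩; ⟨4, 0⟩, ⟨4, 0⟩, ⟨2, 0⟩],
  !![⟨4, 0⟩, ⟨2, 0⟩, ⟨4, 0⟩; ⟨1, 0⟩, ⟨4, 0⟩, ⟨2, 0⟩; ⟨3, 0⟩, ⟨1, 0⟩, ⟨4, 0⟩],
  !![⟨0, 0⟩, ⟨4, 0⟩, ⟨0, 0⟩; ⟨0, 0⟩, ⟨0, 0⟩, ⟨4, 0⟩; ⟨1, 0⟩, ⟨0, 0⟩, ⟨0, 0⟩],
  !![⟨2, 0⟩, ⟨4, 0⟩, ⟨4, 0⟩; ⟨4, 0⟩, ⟨2, 0⟩, ⟨1, 0⟩; ⟨1, 0⟩, ⟨4, 0⟩, ⟨3, 0⟩],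
  !![⟨4, 0⟩, ⟨0, 0⟩, ⟨0, 0⟩; ⟨0, 0⟩, ⟨4, 0⟩, ⟨0, 0⟩; ⟨0, 0⟩, ⟨0, 0⟩, ⟨1, 0⟩],
  !![⟨1, 0⟩, ⟨3, 0⟩, ⟨1, 0⟩; ⟨3, 0⟩, ⟨1, 0⟩, ⟨4, 0⟩; ⟨1, 0⟩, ⟨4, 0⟩, ⟨2, 0⟩],
  !![⟨0, 0⟩, ⟨1, 0⟩, ⟨0, 0⟩; ⟨1, 0⟩, ⟨0, 0⟩, ⟨0, 0⟩; ⟨0, 0⟩, ⟨0, 0⟩, ⟨4, 0⟩],
  !![⟨1, 0⟩, ⟨1, 0⟩, ⟨2, 0⟩; ⟨3, 0⟩, ⟨4, 0⟩, ⟨4, 0⟩; ⟨1, 0⟩, ⟨2, 0⟩, ⟨1, 0⟩],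
  !![⟨0, 0⟩, ⟨0, 0⟩, ⟨4, 0⟩; ⟨1, 0⟩, ⟨0, 0⟩, ⟨0, 0⟩; ⟨0, 0⟩, ⟨4, 0⟩, ⟨0, 0⟩],
  !![⟨2, 0⟩, ⟨4, 0⟩, ⟨1, 0⟩; ⟨4, 0⟩, ⟨1, 0⟩, ⟨3, 0⟩; ⟨1, 0⟩, ⟨3, 0⟩, ⟨1, 0⟩],
  !![⟨4, 0⟩, ⟨0, 0⟩, ⟨0, 0⟩; ⟨0, 0⟩, ⟨0, 0⟩, ⟨1, 0⟩; ⟨0, 0⟩, ⟨1, 0⟩, ⟨0, 0⟩],
  !![⟨4, 0⟩, ⟨2, 0⟩, ⟨1, 0⟩; ⟨2, 0⟩, ⟨4, 0⟩, ⟨4, 0⟩; ⟨4, 0⟩, ⟨1, 0⟩, ⟨2, 0⟩],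
  !![⟨0, 0⟩, ⟨4, 0⟩, ⟨0, 0⟩; ⟨4, 0⟩, ⟨0, 0⟩, ⟨0, 0⟩; ⟨0, 0⟩, ⟨0, 0⟩, ⟨4, 0⟩],
  !![⟨2, 0⟩, ⟨4, 0⟩, ⟨1, 0⟩; ⟨1, 0⟩, ⟨3, 0⟩, ⟨1, 0⟩; ⟨1, 0⟩, ⟨4, 0⟩, ⟨2, 0⟩],
  !![⟨1, 0⟩, ⟨1, 0⟩, ⟨2, 0⟩; ⟨1, 0⟩, ⟨2, 0⟩, ⟨1, 0⟩; ⟨2, 0⟩, ⟨1, 0⟩, ⟨1, 0⟩],
  !![⟨3, 0⟩, ⟨4, 0⟩, ⟨1, 0⟩; ⟨4, 0⟩, ⟨4, 0⟩, ⟨2, 0⟩; ⟨4, 0⟩, ⟨3, 0⟩, ⟨1, 0⟩],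
  !![⟨4, 0⟩, ⟨3, 0⟩, ⟨4, 0⟩; ⟨4, 0⟩, ⟨4, 0⟩, ⟨3, 0⟩; ⟨3, 0⟩, ⟨4, 0⟩, ⟨4, 0⟩],
  !![⟨2, 0⟩, ⟨4, 0⟩, ⟨4, 0⟩; ⟨1, 0⟩, ⟨3, 0⟩, ⟨4, 0⟩; ⟨4, 0⟩, ⟨1, 0⟩, ⟨2, 0⟩],
  !![⟨3, 0⟩, ⟨4, 0⟩, ⟨4, 0⟩; ⟨4, 0⟩, ⟨4, 0⟩, ⟨3, 0⟩; ⟨1, 0⟩, ⟨2, 0⟩, ⟨1, 0⟩],
  !![⟨1, 0⟩, ⟨1, 0⟩, ⟨3, 0⟩; ⟨1, 0⟩, ⟨2, 0⟩, ⟨4, 0⟩; ⟨3, 0⟩, ⟨4, 0⟩, ⟨1, 0⟩],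
  !![⟨1, 0⟩, ⟨1, 0⟩, ⟨2, 0⟩; ⟨2, 0⟩, ⟨1, 0⟩, ⟨1, 0⟩; ⟨4, 0⟩, ⟨3, 0⟩, ⟨4, 0⟩],
  !![⟨1, 0⟩, ⟨3, 0⟩, ⟨1, 0⟩; ⟨2, 0⟩, ⟨4, 0⟩, ⟨1, 0⟩; ⟨4, 0⟩, ⟨1, 0⟩, ⟨3, 0⟩],
  !![⟨1, 0⟩, ⟨2, 0⟩, ⟨1, 0⟩; ⟨1, 0⟩, ⟨1, 0⟩, ⟨2, 0⟩; ⟨3, 0⟩, ⟨4, 0⟩, ⟨4, 0⟩],
  !![⟨1, 0⟩, ⟨2, 0⟩, ⟨4, 0⟩; ⟨3, 0⟩, ⟨4, 0⟩, ⟨1, 0⟩; ⟨1, 0⟩, ⟨1, 0⟩, ⟨3, 0⟩],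
  !![⟨0, 0⟩, ⟨4, 0⟩, ⟨0, 0⟩; ⟨1, 0⟩, ⟨0, 0⟩, ⟨0, 0⟩; ⟨0, 0⟩, ⟨0, 0⟩, ⟨1, 0⟩],
  !![⟨1, 0⟩, ⟨4, 0⟩, ⟨2, 0⟩; ⟨4, 0⟩, ⟨2, 0⟩, ⟨4, 0⟩; ⟨2, 0⟩, ⟨4, 0⟩, ⟨1, 0⟩],
  !![⟨0, 0⟩, ⟨0, 0⟩, ⟨4, 0⟩; ⟨0, 0⟩, ⟨4, 0⟩, ⟨0, 0⟩; ⟨4, 0⟩, ⟨0, 0⟩, ⟨0, 0⟩],
  !![⟨4, 0⟩, ⟨3, 0⟩, ⟨1, 0⟩; ⟨1, 0⟩, ⟨1, 0⟩, ⟨3, 0⟩; ⟨3, 0⟩, ⟨4, 0⟩, ⟨1, 0⟩],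
  !![⟨0, 0⟩, ⟨1, 0⟩, ⟨0, 0⟩; ⟨0, 0⟩, ⟨0, 0⟩, ⟨1, 0⟩; ⟨1, 0⟩, ⟨0, 0⟩, ⟨0, 0⟩],
  !![⟨3, 0⟩, ⟨1, 0⟩, ⟨1, 0⟩; ⟨1, 0⟩, ⟨4, 0⟩, ⟨3, 0⟩; ⟨4, 0⟩, ⟨2, 0⟩, ⟨1, 0⟩],
  !![⟨1, 0⟩, ⟨0, 0⟩, ⟨0, 0⟩; ⟨0, 0⟩, ⟨0, 0⟩, ⟨1, 0⟩; ⟨0, 0⟩, ⟨4, 0⟩, ⟨0, 0⟩],
  !![⟨4, 0⟩, ⟨4, 0⟩, ⟨2, 0⟩; ⟨2, 0⟩, ⟨1, 0⟩, ⟨4, 0⟩; ⟨4, 0⟩, ⟨3, 0⟩, ⟨1, 0⟩],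
  !![⟨0, 0⟩, ⟨0, 0⟩, ⟨4, 0⟩; ⟨4, 0⟩, ⟨0, 0⟩, ⟨0, 0⟩; ⟨0, 0⟩, ⟨1, 0⟩, ⟨0, 0⟩],
  !![⟨3, 0⟩, ⟨1, 0⟩, ⟨4, 0⟩; ⟨1, 0⟩, ⟨4, 0⟩, ⟨2, 0⟩; ⟨1, 0⟩, ⟨3, 0⟩, ⟨1, 0⟩],
  !![⟨4, 0⟩, ⟨4, 0⟩, ⟨3, 0⟩; ⟨2, 0⟩, ⟨1, 0⟩, ⟨1, 0⟩; ⟨1, 0⟩, ⟨2, 0⟩, ⟨1, 0⟩],
  !![⟨1, 0⟩, ⟨0, 0⟩, ⟨0, 0⟩; ⟨0, 0⟩, ⟨0, 0⟩, ⟨4, 0⟩; ⟨0, 0⟩, ⟨1, 0⟩, ⟨0, 0⟩],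
  !![⟨3, 0⟩, ⟨4, 0⟩, ⟨4, 0⟩; ⟨1, 0⟩, ⟨1, 0⟩, ⟨2, 0⟩; ⟨4, 0⟩, ⟨3, 0⟩, ⟨4, 0⟩],
  !![⟨1, 0⟩, ⟨4, 0⟩, ⟨3, 0⟩; ⟨4, 0⟩, ⟨2, 0⟩, ⟨1, 0⟩; ⟨3, 0⟩, ⟨1, 0⟩, ⟨1, 0⟩],
  !![⟨4, 0⟩, ⟨3, 0⟩, ⟨4, 0⟩; ⟨1, 0⟩, ⟨1, 0⟩, ⟨2, 0⟩; ⟨2, 0⟩, ⟨1, 0⟩, ⟨1, 0⟩],
  !![⟨0, 0⟩, ⟨0, 0⟩, ⟨1, 0⟩; ⟨0, 0⟩, ⟨4, 0⟩, ⟨0, 0⟩; ⟨1, 0⟩, ⟨0, 0⟩, ⟨0, 0⟩],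
  !![⟨4, 0⟩, ⟨4, 0⟩, ⟨3, 0⟩; ⟨1, 0⟩, ⟨2, 0⟩, ⟨1, 0⟩; ⟨3, 0⟩, ⟨4, 0⟩, ⟨4, 0⟩],
  !![⟨1, 0⟩, ⟨4, 0⟩, ⟨2, 0⟩; ⟨3, 0⟩, ⟨1, 0⟩, ⟨4, 0⟩; ⟨4, 0⟩, ⟨2, 0⟩, ⟨4, 0⟩],
  !![⟨2, 0⟩, ⟨1, 0⟩, ⟨1, 0⟩; ⟨4, 0⟩, ⟨4, 0⟩, ⟨3, 0⟩; ⟨4, 0⟩, ⟨3, 0⟩, ⟨4, 0⟩],
  !![⟨1, 0⟩, ⟨3, 0⟩, ⟨1, 0⟩; ⟨4, 0⟩, ⟨1, 0⟩, ⟨3, 0⟩; ⟨3, 0⟩, ⟨1, 0⟩, ⟨4, 0⟩],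
  !![⟨4, 0⟩, ⟨4, 0⟩, ⟨2, 0⟩; ⟨1, 0⟩, ⟨2, 0⟩, ⟨4, 0⟩; ⟨2, 0⟩, ⟨1, 0⟩, ⟨4, 0⟩],
  !![⟨4, 0⟩, ⟨1, 0⟩, ⟨2, 0⟩; ⟨2, 0⟩, ⟨4, 0⟩, ⟨4, 0⟩; ⟨1, 0⟩, ⟨3, 0⟩, ⟨4, 0⟩],
  !![⟨3, 0⟩, ⟨4, 0⟩, ⟨1, 0⟩; ⟨1, 0⟩, ⟨1, 0⟩, ⟨3, 0⟩; ⟨1, 0⟩, ⟨2, 0⟩, ⟨4, 0⟩],
  !![⟨2, 0⟩, ⟨1, 0⟩, ⟨1, 0⟩; ⟨1, 0⟩, ⟨2, 0⟩, ⟨1, 0⟩; ⟨4, 0⟩, ⟨4, 0⟩, ⟨3, 0⟩],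
  !![⟨3, 0⟩, ⟨1, 0⟩, ⟨1, 0⟩; ⟨4, 0⟩, ⟨1, 0⟩, ⟨2, 0⟩; ⟨1, 0⟩, ⟨3, 0⟩, ⟨4, 0⟩],
  !![⟨4, 0⟩, ⟨3, 0⟩, ⟨1, 0⟩; ⟨4, 0⟩, ⟨4, 0⟩, ⟨2, 0⟩; ⟨2, 0⟩, ⟨1, 0⟩, ⟨4, 0⟩],
  !![⟨4, 0⟩, ⟨2, 0⟩, ⟨1, 0⟩; ⟨3, 0⟩, ⟨1, 0⟩, ⟨1, 0⟩; ⟨1, 0⟩, ⟨4, 0⟩, ⟨3, 0⟩],
  !![⟨1, 0⟩, ⟨2, 0⟩, ⟨1, 0⟩; ⟨4, 0⟩, ⟨4, 0⟩, ⟨3, 0⟩; ⟨2, 0⟩, ⟨1, 0⟩, ⟨1, 0⟩],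
  !![⟨0, 0⟩, ⟨4, 0⟩, ⟨0, 0⟩; ⟨0, 0⟩, ⟨0, 0⟩, ⟨1, 0⟩; ⟨4, 0⟩, ⟨0, 0⟩, ⟨0, 0⟩],
  !![⟨3, 0⟩, ⟨4, 0⟩, ⟨1, 0⟩; ⟨1, 0⟩, ⟨2, 0⟩, ⟨4, 0⟩; ⟨4, 0⟩, ⟨4, 0⟩, ⟨2, 0⟩],
  !![⟨1, 0⟩, ⟨0, 0⟩, ⟨0, 0⟩; ⟨0, 0⟩, ⟨4, 0⟩, ⟨0, 0⟩; ⟨0, 0⟩, ⟨0, 0⟩, ⟨4, 0⟩],
  !![⟨4, 0⟩, ⟨3, 0⟩, ⟨4, 0⟩; ⟨2, 0⟩, ⟨1, 0⟩, ⟨1, 0⟩; ⟨4, 0⟩, ⟨4, 0⟩, ⟨3, 0⟩],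
  !![⟨0, 0⟩, ⟨1, 0⟩, ⟨0, 0⟩; ⟨4, 0⟩, ⟨0, 0⟩, ⟨0, 0⟩; ⟨0, 0⟩, ⟨0, 0⟩, ⟨1, 0⟩],
  !![⟨4, 0⟩, ⟨1, 0⟩, ⟨3, 0⟩; ⟨2, 0⟩, ⟨4, 0⟩, ⟨1, 0⟩; ⟨4, 0⟩, ⟨2, 0⟩, ⟨4, 0⟩],
  !![⟨0, 0⟩, ⟨0, 0⟩, ⟨1, 0⟩; ⟨4, 0⟩, ⟨0, 0⟩, ⟨0, 0⟩; ⟨0, 0⟩, ⟨4, 0⟩, ⟨0, 0⟩],
  !![⟨1, 0⟩, ⟨1, 0⟩, ⟨3, 0⟩; ⟨3, 0⟩, ⟨4, 0⟩, ⟨1, 0⟩; ⟨4, 0⟩, ⟨3, 0⟩, ⟨1, 0⟩],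
  !![⟨2, 0⟩, ⟨4, 0⟩, ⟨4, 0⟩; ⟨4, 0⟩, ⟨1, 0⟩, ⟨2, 0⟩; ⟨4, 0⟩, ⟨2, 0⟩, ⟨1, 0⟩],
  !![⟨0, 0⟩, ⟨0, 0⟩, ⟨1, 0⟩; ⟨1, 0⟩, ⟨0, 0⟩, ⟨0, 0⟩; ⟨0, 0⟩, ⟨1, 0⟩, ⟨0, 0⟩],
  !![⟨1, 0⟩, ⟨4, 0⟩, ⟨3, 0⟩; ⟨3, 0⟩, ⟨1, 0⟩, ⟨1, 0⟩; ⟨1, 0⟩, ⟨3, 0⟩, ⟨4, 0⟩],
  !![⟨2, 0⟩, ⟨4, 0⟩, ⟨1, 0⟩; ⟨4, 0⟩, ⟨2, 0⟩, ⟨4, 0⟩; ⟨4, 0⟩, ⟨1, 0⟩, ⟨3, 0⟩],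
  !![⟨1, 0⟩, ⟨3, 0⟩, ⟨4, 0⟩; ⟨3, 0⟩, ⟨1, 0⟩, ⟨1, 0⟩; ⟨4, 0⟩, ⟨1, 0⟩, ⟨2, 0⟩],
  !![⟨4, 0⟩, ⟨3, 0⟩, ⟨1, 0⟩; ⟨2, 0⟩, ⟨1, 0⟩, ⟨4, 0⟩; ⟨1, 0⟩, ⟨1, 0⟩, ⟨3, 0⟩],
  !![⟨3, 0⟩, ⟨4, 0⟩, ⟨4, 0⟩; ⟨1, 0⟩, ⟨2, 0⟩, ⟨1, 0⟩; ⟨1, 0⟩, ⟨1, 0⟩, ⟨2, 0⟩],
  !![⟨1, 0⟩, ⟨2, 0⟩, ⟨1, 0⟩; ⟨2, 0⟩, ⟨1, 0⟩, ⟨1, 0⟩; ⟨1, 0⟩, ⟨1, 0⟩, ⟨2, 0⟩],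
  !![⟨4, 0⟩, ⟨1, 0⟩, ⟨2, 0⟩; ⟨3, 0⟩, ⟨1, 0⟩, ⟨1, 0⟩; ⟨4, 0⟩, ⟨2, 0⟩, ⟨1, 0⟩],
  !![⟨0, 0⟩, ⟨1, 0⟩, ⟨0, 0⟩; ⟨0, 0⟩, ⟨0, 0⟩, ⟨4, 0⟩; ⟨4, 0⟩, ⟨0, 0⟩, ⟨0, 0⟩],
  !![⟨1, 0⟩, ⟨3, 0⟩, ⟨4, 0⟩; ⟨4, 0⟩, ⟨1, 0⟩, ⟨2, 0⟩; ⟨2, 0⟩, ⟨4, 0⟩, ⟨4, 0⟩],
  !![⟨2, 0⟩, ⟨1, 0⟩, ⟨1, 0⟩; ⟨1, 0⟩, ⟨1, 0⟩, ⟨2, 0⟩; ⟨1, 0⟩, ⟨2, 0⟩, ⟨1, 0⟩],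
  !![⟨1, 0⟩, ⟨2, 0⟩, ⟨4, 0⟩; ⟨1, 0⟩, ⟨1, 0⟩, ⟨3, 0⟩; ⟨2, 0⟩, ⟨1, 0⟩, ⟨4, 0⟩],
  !![⟨4, 0⟩, ⟨2, 0⟩, ⟨4, 0⟩; ⟨3, 0⟩, ⟨1, 0⟩, ⟨4, 0⟩; ⟨4, 0⟩, ⟨1, 0⟩, ⟨3, 0⟩],
  !![⟨1, 0⟩, ⟨1, 0⟩, ⟨3, 0⟩; ⟨2, 0⟩, ⟨1, 0⟩, ⟨4, 0⟩; ⟨1, 0⟩, ⟨2, 0⟩, ⟨4, 0⟩],
  !![⟨3, 0⟩, ⟨1, 0⟩, ⟨4, 0⟩; ⟨4, 0⟩, ⟨1, 0⟩, ⟨3, 0⟩; ⟨4, 0⟩, ⟨2, 0⟩, ⟨4, 0⟩],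
  !![⟨4, 0⟩, ⟨2, 0⟩, ⟨1, 0⟩; ⟨4, 0⟩, ⟨1, 0⟩, ⟨2, 0⟩; ⟨3, 0⟩, ⟨1, 0⟩, ⟨1, 0⟩],
  !![⟨2, 0⟩, ⟨1, 0⟩, ⟨4, 0⟩; ⟨4, 0⟩, ⟨4, 0⟩, ⟨2, 0⟩; ⟨1, 0⟩, ⟨2, 0⟩, ⟨4, 0⟩],
  !![⟨4, 0⟩, ⟨0, 0⟩, ⟨0, 0⟩; ⟨0, 0⟩, ⟨0, 0⟩, ⟨4, 0⟩; ⟨0, 0⟩, ⟨4, 0⟩, ⟨0, 0⟩]]
def so3Par : List ℕ := [0, 0, 0, 1, 1, 2, 2, 3, 3, 4, 4, 5, 5, 6, 6, 7, 8, 8, 9, 9, 10, 10, 11, 11, 12, 12, 13, 13, 14, 14, 15, 15, 16, 16, 17, 17, 18, 18, 19, 19, 20, 20, 23, 23, 24, 24, 25, 25, 26, 26, 27, 27, 28, 28, 30, 30, 31, 31, 32, 32, 33, 33, 34, 34, 37,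 37, 38, 38, 39, 39, 40, 40, 41, 41, 42, 42, 43, 43, 44, 44, 45, 45, 46, 46, 50, 50, 52, 52, 55, 55, 56, 56, 59, 59, 60, 60, 61, 61, 62, 62, 64, 64, 65, 65, 66, 66, 72, 72, 75, 75, 76, 76, 79, 79, 82, 82, 84, 84, 90, 90]
def so3Lab : List Bool := [true, true, false, true, false, true, false, true, false, true, false, true, false, true, false, false, true, false, true, false, true, false, true, false, true, false, true, false, true, false, true, false, true, false, true, false, true, false, true,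 false, true, false, true, false, true, false, true, false, true, false, true, false, true, false, true, false, true, false, true, false, true, false, true, false, true, false, true, false, true, false, true, false, true, false, true, false, true, false, true, false, true, false, true, false, true, false, true, false, true, false, true, false, true, false, true, false, true, false, true, false, true, false, true, false, true, false, true, false, true, false, true, false, true, false, true, false,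 true, false, true, false]

/-- The two generators. -/
def so3Gen (b : Bool) : Matrix (Fin 3) (Fin 3) K25 := if b then D25.a4 else D25.b5

theorem so3_zero : so3L.getD 0 1 = 1 := by decide

theorem so3_tree : ∀ i < 120, i = 0 ∨ (so3Par.getD i 0 < i ∧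
    so3L.getD i 1 = so3Gen (so3Lab.getD i true) * so3L.getD (so3Par.getD i 0) 1) := by decide

/-- The matrix over `K25` with the given rational columns. -/
def so3Mat (a b c d e f g h i : ZMod 5) : Matrix (Fin 3) (Fin 3) K25 :=
  !![⟨a, 0⟩, ⟨d, 0⟩, ⟨g, 0⟩; ⟨b, 0⟩, ⟨e, 0⟩, ⟨h, 0⟩; ⟨c, 0⟩, ⟨f, 0⟩, ⟨i, 0⟩]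

set_option maxHeartbeats 4000000 in
set_option synthInstance.maxHeartbeats 2000000 in
set_option synthInstance.maxSize 100000 in
theorem so3_enum : ∀ a b c : ZMod 5, a * a + b * b + c * c = 1 →
    ∀ d e f : ZMod 5, a * d + b * e + c * f = 0 → d * d + e * e + f * f = 1 →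
    ∀ g h i : ZMod 5, a * g + b * h + c * i = 0 → d * g + e * h + f * i = 0 →
      g * g + h * h + i * i = 1 →
      a * e * i - a * h * f - d * b * i + d * h * c + g * b * f - g * e * c = 1 →
      ∃ k < 120, so3L.getD k 1 = so3Mat a b c d e f g h i := by decide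

end Cfsg.Agent.Helper33.SO3
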