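import Cfsg.Agent.Helper85.WkDefs

/-! helper33 library: piece K of helper85's CALL S5271 -/

set_option autoImplicit false

namespace Cfsg.Agent.Helper33.WkK

open Cfsg Cfsg.FusionSystem Cfsg.Agent.Helper85

variable {Ω : Type*} [Group Ω] {S : Subgroup Ω}

/-- PIECE K -/
theorem wk_between [Finite S] {p : ℕ} [Fact p.Prime] (hS : IsPGroup p S) {R B : Subgroup Ω} (hRB : R ≤ B)
    (hBS : B ≤ S) {D : Subgroup Ω} (hDS : D ≤ S) (h1 : Nat.card ↥R ≤ Nat.card ↥D)
    (h2 : Nat.card ↥D ≤ Nat.card ↥B) : ∃ Q : Subgroup Ω, R ≤ Q ∧ Q ≤ B ∧ Nat.card ↥Q = Nat.card ↥D := by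
  have hp : p.Prime := Fact.out
  have hfinB : Finite ↥B := Finite.of_injective _ (Subgroup.inclusion_injective hBS)
  have hfinD : Finite ↥D := Finite.of_injective _ (Subgroup.inclusion_injective hDS)
  have hfinR : Finite ↥R := Finite.of_injective _ (Subgroup.inclusion_injective (hRB.trans hBS))
  obtain ⟨r, hr⟩ := (hS.to_le (hRB.trans hBS)).exists_card_eq
  obtain ⟨k, hk⟩ := (hS.to_le hDS).exists_card_eq
  obtain ⟨b, hb⟩ := (hS.to_le hBS).exists_card_eq
  rw [hr, hk] at h1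
  rw [hk, hb] at h2
  have hrk : r ≤ k := (Nat.pow_le_pow_iff_right hp.one_lt).1 h1
  have hkb : k ≤ b := (Nat.pow_le_pow_iff_right hp.one_lt).1 h2
  have hRc : Nat.card ↥(R.subgroupOf B) = p ^ r := by
    rw [← hr]
    exact Nat.card_congr (Subgroup.subgroupOfEquivOfLe hRB).toEquiv
  obtain ⟨K, hK, hRK⟩ := Sylow.exists_subgroup_card_pow_prime_le p
    (show p ^ k ∣ Nat.card ↥B by rw [hb]; exact pow_dvd_pow p hkb) (R.subgroupOf B) hRc hrk
  refine ⟨K.map B.subtype, ?_, Subgroup.map_subtype_le K, ?_⟩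
  · intro x hx
    exact ⟨⟨x, hRB hx⟩, hRK (Subgroup.mem_subgroupOf.2 hx), rfl⟩
  · rw [Subgroup.card_map_of_injective B.subtype_injective, hK, hk]

end Cfsg.Agent.Helper33.WkK
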