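import Cfsg.Agent.Helper85.WkDefs
import Cfsg.Agent.Helper87.Closed
import Cfsg.Agent.Helper33.WkK

/-! helper33 library: piece A of helper85's CALL S5271 (a strongly closed subgroup of order `d`
inside every strongly closed subgroup of order at least `d`). -/

set_option autoImplicit false

namespace Cfsg.Agent.Helper33.WkA

open Cfsg Cfsg.FusionSystem Cfsg.Agent.Helper85

variable {Ω : Type*} [Group Ω] {S : Subgroup Ω}

/-- an `ℕ`-valued function attains its minimum on a nonempty predicate -/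
theorem min_nat {α : Type*} (f : α → ℕ) (q : α → Prop) (hne : ∃ a, q a) :
    ∃ a, q a ∧ ∀ b, q b → f a ≤ f b := by
  classical
  have h : ∃ n, ∃ a, q a ∧ f a = n := by
    obtain ⟨a, ha⟩ := hne
    exact ⟨f a, a, ha, rfl⟩
  obtain ⟨a, ha, hfa⟩ := Nat.find_spec h
  refine ⟨a, ha, fun b hb => ?_⟩
  rw [hfa]
  exact Nat.find_min' h ⟨b, hb, rfl⟩

/-- a bounded `ℕ`-valued function attains its maximum on a nonempty predicate -/
theorem max_nat {α : Type*} (f : α → ℕ) (q : α → Prop) (hne : ∃ a, q a) (B : ℕ)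
    (hB : ∀ a, q a → f a ≤ B) : ∃ a, q a ∧ ∀ b, q b → f b ≤ f a := by
  obtain ⟨a, ha, hmin⟩ := min_nat (fun a => B - f a) q hne
  refine ⟨a, ha, fun b hb => ?_⟩
  have h1 : B - f a ≤ B - f b := hmin b hb
  have h2 := hB a ha
  have h3 := hB b hb
  omega

theorem sc_inf' (F : FusionSystem S) {A B : Subgroup Ω} (hA : F.StronglyClosed A)
    (hB : F.StronglyClosed B) : F.StronglyClosed (A ⊓ B) :=
  ⟨inf_le_left.trans hA.1, fun P hP φ hφ x =>
    ⟨hA.2 P (hP.trans inf_le_left) φ hφ x, hB.2 P (hP.trans inf_le_right) φ hφ x⟩⟩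

theorem sc_bot' (F : FusionSystem S) : F.StronglyClosed (⊥ : Subgroup Ω) := by
  refine ⟨bot_le, fun R hR φ _ x => ?_⟩
  have hx : (x : Ω) = 1 := by
    have := hR x.2
    simpa using this
  have hx' : x = 1 := Subtype.ext hx
  rw [hx', map_one]
  exact Subgroup.one_mem _

/-- product decomposition of `A ⊔ P` for `A ≤ S` and `P` strongly closed -/
theorem mem_sup_sc (F : FusionSystem S) {A P : Subgroup Ω} (hA : A ≤ S)
    (hP : F.StronglyClosed P) {x : Ω} :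
    x ∈ A ⊔ P ↔ ∃ a ∈ A, ∃ k ∈ P, x = a * k :=
  Cfsg.Agent.Helper87.mem_sup_of_normalizes
    (fun _ ha _ hk => Cfsg.Agent.Helper87.stronglyClosed_conj_mem F hP (hA ha) hk)

/-- PIECE A -/
theorem wk_chain [Finite S] {p : ℕ} [Fact p.Prime] (hS : IsPGroup p S) (F : FusionSystem S)
    (hF : F.IsSaturated p) {D : Subgroup Ω} (hDS : D ≤ S) (hemb : WkEmb F (Nat.card ↥D))
    (T : Subgroup Ω) (hT : F.StronglyClosed T) (hcard : Nat.card ↥D ≤ Nat.card ↥T) :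
    ∃ X : Subgroup Ω, F.StronglyClosed X ∧ X ≤ T ∧ Nat.card ↥X = Nat.card ↥D := by
  have fin : ∀ X : Subgroup Ω, X ≤ S → Finite ↥X :=
    fun X h => Finite.of_injective _ (Subgroup.inclusion_injective h)
  have hsup : ∀ A B : Subgroup Ω, F.StronglyClosed A → F.StronglyClosed B →
      F.StronglyClosed (A ⊔ B) :=
    fun A B hA hB => Cfsg.Agent.S5128.result p hS F hF A B hA hB
  have hfD := fin D hDS
  have hd1 : 1 ≤ Nat.card ↥D := Nat.card_pos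
  obtain ⟨X', ⟨hX'sc, hX'T, hX'd⟩, hmax⟩ := max_nat (fun X : Subgroup Ω => Nat.card ↥X)
    (fun X => F.StronglyClosed X ∧ X ≤ T ∧ Nat.card ↥X ≤ Nat.card ↥D)
    ⟨⊥, sc_bot' F, bot_le, by rw [Subgroup.card_bot]; exact hd1⟩ (Nat.card ↥D)
    (fun X h => h.2.2)
  by_cases hXd : Nat.card ↥X' = Nat.card ↥D
  · exact ⟨X', hX'sc, hX'T, hXd⟩
  exfalso
  have hXlt : Nat.card ↥X' < Nat.card ↥D := lt_of_le_of_ne hX'd hXd
  obtain ⟨X'', ⟨hX''sc, hX'X'', hX''T, hlt⟩, hmin⟩ := min_nat (fun X : Subgroup Ω => Nat.card ↥X)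
    (fun Y => F.StronglyClosed Y ∧ X' ≤ Y ∧ Y ≤ T ∧ Nat.card ↥X' < Nat.card ↥Y)
    ⟨T, hT, hX'T, le_rfl, lt_of_lt_of_le hXlt hcard⟩
  have hX''S : X'' ≤ S := hX''sc.1
  have hdlt : Nat.card ↥D < Nat.card ↥X'' := by
    by_contra h
    have h1 : Nat.card ↥X'' ≤ Nat.card ↥X' := hmax X'' ⟨hX''sc, hX''T, not_lt.1 h⟩
    omega
  obtain ⟨Q, hX'Q, hQX'', hQd⟩ :=
    Cfsg.Agent.Helper33.WkK.wk_between hS hX'X'' hX''S hDS hX'd hdlt.le
  have hQS : Q ≤ S := hQX''.trans hX''S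
  obtain ⟨P, hP, hQP, hQiP⟩ := hemb Q hQS hQd
  have hfQ := fin Q hQS
  have hfX'' := fin X'' hX''S
  have hfX' := fin X' hX'sc.1
  -- (i)
  have h_i : Q ⊓ P ≤ X' := by
    have hZsc : F.StronglyClosed ((Q ⊓ P) ⊔ X') := hsup _ _ hQiP hX'sc
    have hZQ : (Q ⊓ P) ⊔ X' ≤ Q := sup_le inf_le_left hX'Q
    have hZc : Nat.card ↥((Q ⊓ P) ⊔ X') ≤ Nat.card ↥D := by
      rw [← hQd]; exact Subgroup.card_le_of_le hZQ
    have h1 : Nat.card ↥((Q ⊓ P) ⊔ X') ≤ Nat.card ↥X' :=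
      hmax _ ⟨hZsc, hZQ.trans (hQX''.trans hX''T), hZc⟩
    have hfZ := fin _ (hZQ.trans hQS)
    have h2 : X' = (Q ⊓ P) ⊔ X' := Subgroup.eq_of_le_of_card_ge le_sup_right h1
    exact le_sup_left.trans h2.symm.le
  -- (ii)
  have h_ii : X'' ≤ Q ⊔ P := by
    have hYsc : F.StronglyClosed ((Q ⊔ P) ⊓ X'') := sc_inf' F hQP hX''sc
    have hQY : Q ≤ (Q ⊔ P) ⊓ X'' := le_inf le_sup_left hQX''
    have hYX'' : (Q ⊔ P) ⊓ X'' ≤ X'' := inf_le_right
    have hfY := fin _ (hYX''.trans hX''S)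
    have hYc : Nat.card ↥X' < Nat.card ↥((Q ⊔ P) ⊓ X'') := by
      have h0 := Subgroup.card_le_of_le hQY
      omega
    have h1 : Nat.card ↥X'' ≤ Nat.card ↥((Q ⊔ P) ⊓ X'') :=
      hmin _ ⟨hYsc, hX'Q.trans hQY, hYX''.trans hX''T, hYc⟩
    have h2 : (Q ⊔ P) ⊓ X'' = X'' := Subgroup.eq_of_le_of_card_ge hYX'' h1
    exact h2.ge.trans inf_le_left
  -- (iii)
  have hP1sc : F.StronglyClosed (X'' ⊓ P) := sc_inf' F hX''sc hP
  have hVsc : F.StronglyClosed (X' ⊔ (X'' ⊓ P)) := hsup _ _ hX'sc hP1sc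
  have hVX'' : X' ⊔ (X'' ⊓ P) ≤ X'' := sup_le hX'X'' inf_le_left
  have hfV := fin _ (hVX''.trans hX''S)
  by_cases hcase : Nat.card ↥X' < Nat.card ↥(X' ⊔ (X'' ⊓ P))
  · have h1 : Nat.card ↥X'' ≤ Nat.card ↥(X' ⊔ (X'' ⊓ P)) :=
      hmin _ ⟨hVsc, le_sup_left, hVX''.trans hX''T, hcase⟩
    have h2 : X' ⊔ (X'' ⊓ P) = X'' := Subgroup.eq_of_le_of_card_ge hVX'' h1
    have hQX' : Q ≤ X' := by
      intro q hq
      have hq' : q ∈ X' ⊔ (X'' ⊓ P) := by rw [h2]; exact hQX'' hq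
      obtain ⟨a, ha, k, hk, rfl⟩ := (mem_sup_sc F hX'sc.1 hP1sc).1 hq'
      have hkQ : k ∈ Q := by
        have h3 := Q.mul_mem (Q.inv_mem (hX'Q ha)) hq
        rwa [inv_mul_cancel_left] at h3
      exact X'.mul_mem ha (h_i ⟨hkQ, hk.2⟩)
    have h4 := Subgroup.card_le_of_le hQX'
    omega
  · have h2 : X' = X' ⊔ (X'' ⊓ P) :=
      Subgroup.eq_of_le_of_card_ge le_sup_left (not_lt.1 hcase)
    have hP1 : X'' ⊓ P ≤ X' := le_sup_right.trans h2.symm.le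
    have hX''Q : X'' ≤ Q := by
      intro w hw
      obtain ⟨a, ha, k, hk, rfl⟩ := (mem_sup_sc F hQS hP).1 (h_ii hw)
      have hkX : k ∈ X'' := by
        have h3 := X''.mul_mem (X''.inv_mem (hQX'' ha)) hw
        rwa [inv_mul_cancel_left] at h3
      exact Q.mul_mem ha (hX'Q (hP1 ⟨hkX, hk⟩))
    have h4 := Subgroup.card_le_of_le hX''Q
    omega

end Cfsg.Agent.Helper33.WkA
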