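import Cfsg.Agent.Helper85.WkDefs
import Cfsg.Agent.Helper87.Closed
import Cfsg.Agent.Helper33.WkK
import Cfsg.Agent.Helper33.WkA

/-! helper33 library: piece D of helper85's CALL S5271 (the minimal strongly closed overgroup `W`
of `T` is contained in, or meets in `T`, every large subgroup `M ≥ T`). -/

set_option autoImplicit false

namespace Cfsg.Agent.Helper33.WkD

open Cfsg Cfsg.FusionSystem Cfsg.Agent.Helper85

variable {Ω : Type*} [Group Ω] {S : Subgroup Ω}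

/-- PIECE D -/
theorem wk_star [Finite S] {p : ℕ} [Fact p.Prime] (hS : IsPGroup p S) (F : FusionSystem S)
    (hF : F.IsSaturated p) {D : Subgroup Ω} (hDS : D ≤ S) (hemb : WkEmb F (Nat.card ↥D))
    (T W M : Subgroup Ω) (hT : F.StronglyClosed T) (hTd : Nat.card ↥T < Nat.card ↥D)
    (hW : F.StronglyClosed W) (hTW : T ≤ W)
    (hmin : ∀ T' : Subgroup Ω, F.StronglyClosed T' → T ≤ T' → T' ≠ T → W ≤ T')
    (hTM : T ≤ M) (hMS : M ≤ S) (hDM : Nat.card ↥D ≤ Nat.card ↥M) : W ≤ M ∨ W ⊓ M = T := by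
  have fin : ∀ X : Subgroup Ω, X ≤ S → Finite ↥X :=
    fun X h => Finite.of_injective _ (Subgroup.inclusion_injective h)
  have hsup : ∀ A B : Subgroup Ω, F.StronglyClosed A → F.StronglyClosed B →
      F.StronglyClosed (A ⊔ B) :=
    fun A B hA hB => Cfsg.Agent.S5128.result p hS F hF A B hA hB
  by_cases hne : W ⊓ M = T
  · exact Or.inr hne
  left
  have hTWM : T ≤ W ⊓ M := le_inf hTW hTM
  have hWMS : W ⊓ M ≤ S := inf_le_right.trans hMS
  have hfWM := fin _ hWMS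
  have hfM := fin M hMS
  -- choose `Q`
  obtain ⟨Q, hTQ, hQM, hQd, hQW⟩ : ∃ Q : Subgroup Ω, T ≤ Q ∧ Q ≤ M ∧
      Nat.card ↥Q = Nat.card ↥D ∧ Q ⊓ W ≠ T := by
    by_cases hc : Nat.card ↥D ≤ Nat.card ↥(W ⊓ M)
    · obtain ⟨Q, hTQ, hQWM, hQd⟩ :=
        Cfsg.Agent.Helper33.WkK.wk_between hS hTWM hWMS hDS hTd.le hc
      refine ⟨Q, hTQ, hQWM.trans inf_le_right, hQd, ?_⟩
      rw [inf_eq_left.2 (hQWM.trans inf_le_left)]
      intro h
      rw [h] at hQd
      omega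
    · obtain ⟨Q, hWMQ, hQM, hQd⟩ :=
        Cfsg.Agent.Helper33.WkK.wk_between hS (inf_le_right : W ⊓ M ≤ M) hMS hDS
          (not_le.1 hc).le hDM
      refine ⟨Q, hTWM.trans hWMQ, hQM, hQd, ?_⟩
      have h1 : Q ⊓ W = W ⊓ M :=
        le_antisymm (le_inf inf_le_right (inf_le_left.trans hQM)) (le_inf hWMQ inf_le_left)
      rw [h1]; exact hne
  have hQS : Q ≤ S := hQM.trans hMS
  obtain ⟨P, hP, hQP, hQiP⟩ := hemb Q hQS hQd
  have hP'sc : F.StronglyClosed (T ⊔ P) := hsup _ _ hT hP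
  -- `Q ⊓ (T ⊔ P) = T ⊔ (Q ⊓ P)`
  have hmod : Q ⊓ (T ⊔ P) = T ⊔ (Q ⊓ P) := by
    apply le_antisymm
    · intro x hx
      obtain ⟨a, ha, k, hk, rfl⟩ := (Cfsg.Agent.Helper33.WkA.mem_sup_sc F hT.1 hP).1 hx.2
      have hkQ : k ∈ Q := by
        have h3 := Q.mul_mem (Q.inv_mem (hTQ ha)) hx.1
        rwa [inv_mul_cancel_left] at h3
      exact Subgroup.mul_mem _ (Subgroup.mem_sup_left ha) (Subgroup.mem_sup_right ⟨hkQ, hk⟩)
    · exact sup_le (le_inf hTQ le_sup_left) (le_inf inf_le_left (inf_le_right.trans le_sup_right))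
  have hQP'sc : F.StronglyClosed (Q ⊓ (T ⊔ P)) := by
    rw [hmod]; exact hsup _ _ hT hQiP
  by_cases ha : Q ⊓ (T ⊔ P) = T
  · by_cases hb : T ⊔ P = T
    · -- `Q` is strongly closed
      have hPQ : P ≤ Q := (le_sup_right.trans hb.le).trans hTQ
      have hQsc : F.StronglyClosed Q := by
        have h1 : Q ⊔ P = Q := sup_eq_left.2 hPQ
        rw [h1] at hQP; exact hQP
      have hQT : Q ≠ T := by
        intro h
        rw [h] at hQd
        omega
      exact (hmin Q hQsc hTQ hQT).trans hQM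
    · exfalso
      have hWP' : W ≤ T ⊔ P := hmin _ hP'sc le_sup_left hb
      apply hQW
      apply le_antisymm
      · calc Q ⊓ W ≤ Q ⊓ (T ⊔ P) := inf_le_inf_left Q hWP'
          _ = T := ha
      · exact le_inf hTQ hTW
  · exact ((hmin _ hQP'sc (le_inf hTQ le_sup_left) ha).trans inf_le_left).trans hQM

end Cfsg.Agent.Helper33.WkD
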