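import Cfsg.Agent.Helper33.WkHCore
import Cfsg.Agent.Helper78.WkG

/-! helper33 library: piece H of helper85's CALL S5271 (verbatim statement; the core is
`Cfsg.Agent.Helper33.WkH.wk_caseb_of`, piece G is helper78's `wk_cyclic_hyp`). -/

set_option autoImplicit false

namespace Cfsg.Agent.Helper33.WkH

open Cfsg Cfsg.FusionSystem Cfsg.Agent.Helper85

variable {Ω : Type*} [Group Ω] {S : Subgroup Ω}

/-- PIECE H -/
theorem wk_caseb [Finite S] {p : ℕ} [Fact p.Prime] (hS : IsPGroup p S) (F : FusionSystem S)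
    (hF : F.IsSaturated p) (T : Subgroup Ω) (hT : F.StronglyClosed T)
    (hinn : ∀ (A : Subgroup Ω), S ≤ A → ∀ ψ ∈ F.Hom A, ∃ g ∈ S, ∀ x : A, ψ x = g * (x : Ω) * g⁻¹)
    (M : Subgroup Ω) (hTM : T ≤ M) (hMS : M ≤ S) (hMp : Nat.card ↥M * p = Nat.card ↥S)
    (hYM : (F.hyperfocalSubgroup p ⊔ T) ⊓ M = T) : F.hyperfocalSubgroup p ≤ T := by
  have : (T.subgroupOf S).Normal := Cfsg.Agent.Helper86.stronglyClosed_subgroupOf_normal F hT
  exact wk_caseb_of hS F hF T hT hinn M hTM hMS hMp hYM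
    (fun E hE hinn' y hy =>
      Cfsg.Agent.Helper78.WkG.wk_cyclic_hyp ((hS.to_quotient (T.subgroupOf S)).to_subgroup ⊤)
        E hE hinn' y hy)

end Cfsg.Agent.Helper33.WkH
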