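import Cfsg.Agent.Helper85.WkDefs
import Cfsg.Agent.Helper86.FusTransfer

/-! helper33 library: core of piece H of helper85's CALL S5271 (case (b): the hyperfocal subgroup
has cyclic image modulo `T`), with piece G as a hypothesis. -/

set_option autoImplicit false

namespace Cfsg.Agent.Helper33.WkH

open Cfsg Cfsg.FusionSystem Cfsg.Agent.Helper85

variable {Ω : Type*} [Group Ω] {S : Subgroup Ω}

/-- PIECE H with piece G (for the quotient `S ⧸ T`) as a hypothesis -/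
theorem wk_caseb_of [Finite S] {p : ℕ} [Fact p.Prime] (hS : IsPGroup p S) (F : FusionSystem S)
    (hF : F.IsSaturated p) (T : Subgroup Ω) (hT : F.StronglyClosed T)
    (hinn : ∀ (A : Subgroup Ω), S ≤ A → ∀ ψ ∈ F.Hom A, ∃ g ∈ S, ∀ x : A, ψ x = g * (x : Ω) * g⁻¹)
    (M : Subgroup Ω) (hTM : T ≤ M) (hMS : M ≤ S) (hMp : Nat.card ↥M * p = Nat.card ↥S)
    (hYM : (F.hyperfocalSubgroup p ⊔ T) ⊓ M = T) [(T.subgroupOf S).Normal]
    (hG : ∀ (E : FusionSystem (⊤ : Subgroup (S ⧸ T.subgroupOf S))), E.IsSaturated p →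
      (∀ (A : Subgroup (S ⧸ T.subgroupOf S)), ⊤ ≤ A → ∀ ψ ∈ E.Hom A,
        ∃ g ∈ (⊤ : Subgroup (S ⧸ T.subgroupOf S)),
          ∀ x : A, ψ x = g * (x : S ⧸ T.subgroupOf S) * g⁻¹) →
      ∀ y : S ⧸ T.subgroupOf S, E.hyperfocalSubgroup p = Subgroup.zpowers y →
        E.hyperfocalSubgroup p = ⊥) :
    F.hyperfocalSubgroup p ≤ T := by
  have hp : p.Prime := Fact.out
  obtain ⟨E, hE, hEsat, hEhyp⟩ := wk_quot hS F hF T hT
  obtain ⟨hTS, hker, -, hHom⟩ := hE
  have hYS : F.hyperfocalSubgroup p ≤ S := (Cfsg.Agent.S5124.result p hS F hF).1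
  -- maps of `E` defined on the whole group are inner
  have hEinn : ∀ (A : Subgroup (S ⧸ T.subgroupOf S)), ⊤ ≤ A → ∀ ψ ∈ E.Hom A,
      ∃ g ∈ (⊤ : Subgroup (S ⧸ T.subgroupOf S)),
        ∀ x : A, ψ x = g * (x : S ⧸ T.subgroupOf S) * g⁻¹ := by
    intro P' hP' φ' hφ'
    obtain ⟨-, φ, hφ, hP, hφS, hP'', hind⟩ := (hHom P' φ').1 hφ'
    have hSpre : S ≤ preimageAlong (QuotientGroup.mk' (T.subgroupOf S)) P' := by
      intro x hx
      exact ⟨⟨x, hx⟩, hP' (Subgroup.mem_top _), rfl⟩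
    obtain ⟨g, hg, hgx⟩ := hinn _ hSpre φ hφ
    refine ⟨QuotientGroup.mk' (T.subgroupOf S) ⟨g, hg⟩, Subgroup.mem_top _, ?_⟩
    rintro ⟨x'v, hx'v⟩
    obtain ⟨s, rfl⟩ := QuotientGroup.mk'_surjective (T.subgroupOf S) x'v
    have hsP : (s : Ω) ∈ preimageAlong (QuotientGroup.mk' (T.subgroupOf S)) P' := ⟨s, hx'v, rfl⟩
    have h1 := hind ⟨(s : Ω), hsP⟩
    refine h1.trans ?_
    show QuotientGroup.mk' (T.subgroupOf S) ⟨φ ⟨(s : Ω), hsP⟩, hφS ⟨(s : Ω), hsP⟩⟩ =
      QuotientGroup.mk' (T.subgroupOf S) ⟨g, hg⟩ * QuotientGroup.mk' (T.subgroupOf S) s *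
        (QuotientGroup.mk' (T.subgroupOf S) ⟨g, hg⟩)⁻¹
    rw [← map_inv, ← map_mul, ← map_mul]
    congr 1
    exact Subtype.ext (hgx ⟨(s : Ω), hsP⟩)
  -- the hyperfocal subgroup of `E` has at most `p` elements
  have hidx : (M.subgroupOf S).index = p := by
    have h1 := Subgroup.card_mul_index (M.subgroupOf S)
    rw [Nat.card_congr (Subgroup.subgroupOfEquivOfLe hMS).toEquiv, ← hMp] at h1
    have hMpos : 0 < Nat.card ↥M := by
      have hfM : Finite ↥M := Finite.of_injective _ (Subgroup.inclusion_injective hMS)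
      exact Nat.card_pos
    exact Nat.eq_of_mul_eq_mul_left hMpos h1
  have hcardle : Nat.card ↥(E.hyperfocalSubgroup p) ≤ p := by
    rw [hEhyp]
    have hsurj : ∀ z : ↥(((F.hyperfocalSubgroup p).subgroupOf S).map
        (QuotientGroup.mk' (T.subgroupOf S))),
        ∃ y : S, y ∈ (F.hyperfocalSubgroup p).subgroupOf S ∧
          QuotientGroup.mk' (T.subgroupOf S) y = z.1 := fun z => z.2
    choose c hc1 hc2 using hsurj
    have hinj : Function.Injective
        (fun z : ↥(((F.hyperfocalSubgroup p).subgroupOf S).map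
          (QuotientGroup.mk' (T.subgroupOf S))) =>
          (QuotientGroup.mk (c z) : S ⧸ M.subgroupOf S)) := by
      intro z1 z2 h
      have h1 : (c z1)⁻¹ * c z2 ∈ M.subgroupOf S := QuotientGroup.eq.1 h
      have h2 : ((c z1)⁻¹ * c z2 : S) ∈ (F.hyperfocalSubgroup p).subgroupOf S :=
        Subgroup.mul_mem _ (Subgroup.inv_mem _ (hc1 z1)) (hc1 z2)
      have h3 : (((c z1)⁻¹ * c z2 : S) : Ω) ∈ (F.hyperfocalSubgroup p ⊔ T) ⊓ M :=
        ⟨Subgroup.mem_sup_left (Subgroup.mem_subgroupOf.1 h2), Subgroup.mem_subgroupOf.1 h1⟩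
      rw [hYM] at h3
      have h4 : QuotientGroup.mk' (T.subgroupOf S) ((c z1)⁻¹ * c z2) = 1 := (hker _).2 h3
      rw [map_mul, map_inv, hc2, hc2, inv_mul_eq_one] at h4
      exact Subtype.ext h4
    have h7 : Nat.card ↥(((F.hyperfocalSubgroup p).subgroupOf S).map
        (QuotientGroup.mk' (T.subgroupOf S))) ≤ Nat.card (S ⧸ M.subgroupOf S) :=
      Nat.card_le_card_of_injective _ hinj
    exact h7.trans hidx.le
  -- hence it is cyclic
  have hS' : IsPGroup p (⊤ : Subgroup (S ⧸ T.subgroupOf S)) :=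
    (hS.to_quotient (T.subgroupOf S)).to_subgroup ⊤
  have hZp : IsPGroup p ↥(E.hyperfocalSubgroup p) :=
    (hS.to_quotient (T.subgroupOf S)).to_subgroup _
  have hbot : E.hyperfocalSubgroup p = ⊥ := by
    obtain ⟨k, hk⟩ := hZp.exists_card_eq
    rw [hk] at hcardle
    have hk1 : k ≤ 1 := by
      by_contra hk2
      have h5 : p ^ 2 ≤ p ^ k := Nat.pow_le_pow_right hp.pos (by omega)
      have h6 : p < p ^ 2 := by
        have := hp.one_lt
        nlinarith
      omega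
    interval_cases k
    · exact Subgroup.card_eq_one.1 (by rw [hk, pow_zero])
    · have hprime : Fact (Nat.card ↥(E.hyperfocalSubgroup p)).Prime := ⟨by rw [hk, pow_one]; exact hp⟩
      have hcyc : IsCyclic ↥(E.hyperfocalSubgroup p) := isCyclic_of_prime_card rfl
      obtain ⟨y, hy⟩ := (Subgroup.isCyclic_iff_exists_zpowers_eq_top _).1 hcyc
      exact hG E hEsat hEinn y hy.symm
  rw [hbot] at hEhyp
  intro y hy
  have hyS : y ∈ S := hYS hy
  have h2 : QuotientGroup.mk' (T.subgroupOf S) ⟨y, hyS⟩ ∈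
      ((F.hyperfocalSubgroup p).subgroupOf S).map (QuotientGroup.mk' (T.subgroupOf S)) :=
    ⟨⟨y, hyS⟩, hy, rfl⟩
  rw [← hEhyp, Subgroup.mem_bot] at h2
  exact (hker ⟨y, hyS⟩).1 h2

end Cfsg.Agent.Helper33.WkH
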