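import Cfsg.Agent.Helper85.WkDefs
import Cfsg.Agent.Helper33.WkA

/-! helper33 library: piece I of helper85's CALL S5271 (the forward direction: an inner fusion
system has weakly embedded maximal subgroups with inner normalizer systems). -/

set_option autoImplicit false

namespace Cfsg.Agent.Helper33.WkI

open Cfsg Cfsg.FusionSystem Cfsg.Agent.Helper85

variable {Ω : Type*} [Group Ω] {S : Subgroup Ω}

/-- PIECE I -/
theorem wk_forward [Finite S] (p : ℕ) [Fact p.Prime] (hS : IsPGroup p S) (F : FusionSystem S)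
    (hcard : p ^ 2 ≤ Nat.card ↥S)
    (hinner : ∀ P : Subgroup Ω, F.Hom P = (innerFusionSystem S).Hom P) :
    ∃ D : Subgroup Ω, ⊥ < D ∧ D < S ∧ WkEmb F (Nat.card ↥D) ∧ WkNorm F (Nat.card ↥D) := by
  have hp : p.Prime := Fact.out
  have hmem : ∀ (P : Subgroup Ω) (φ : P →* Ω), φ ∈ F.Hom P ↔
      (P ≤ S ∧ ∃ g ∈ S, ∀ x : P, φ x = g * (x : Ω) * g⁻¹) := by
    intro P φ
    rw [hinner P]
    rfl
  obtain ⟨n, hn⟩ := hS.exists_card_eq
  have hn2 : 2 ≤ n := by
    rw [hn] at hcard
    exact (Nat.pow_le_pow_iff_right hp.one_lt).1 hcard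
  obtain ⟨K, hK⟩ := Sylow.exists_subgroup_card_pow_prime p
    (show p ^ (n - 1) ∣ Nat.card ↥S by rw [hn]; exact pow_dvd_pow p (Nat.sub_le n 1))
  have hDc : Nat.card ↥(K.map S.subtype) = p ^ (n - 1) := by
    rw [Subgroup.card_map_of_injective S.subtype_injective, hK]
  have hDS : K.map S.subtype ≤ S := Subgroup.map_subtype_le K
  refine ⟨K.map S.subtype, ?_, ?_, ?_, ?_⟩
  · rw [bot_lt_iff_ne_bot]
    intro h
    rw [h, Subgroup.card_bot] at hDc
    have h1 : 1 < p ^ (n - 1) := Nat.one_lt_pow (by omega) hp.one_lt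
    omega
  · refine lt_of_le_of_ne hDS (fun h => ?_)
    rw [h, hn] at hDc
    have h1 := Nat.pow_right_injective hp.two_le hDc
    omega
  · intro Q hQS hQc
    rw [hDc] at hQc
    refine ⟨⊥, WkA.sc_bot' F, ?_, ?_⟩
    · rw [sup_bot_eq]
      have hidx : (Q.subgroupOf S).index = p := by
        have h1 := Subgroup.card_mul_index (Q.subgroupOf S)
        rw [Nat.card_congr (Subgroup.subgroupOfEquivOfLe hQS).toEquiv, hQc, hn] at h1
        have h2 : p ^ n = p ^ (n - 1) * p := by
          rw [← pow_succ]; congr 1; omega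
        rw [h2] at h1
        exact Nat.eq_of_mul_eq_mul_left (pow_pos hp.pos _) h1
      have hnorm : (Q.subgroupOf S).Normal := by
        apply Subgroup.normal_of_index_eq_minFac_card
        rw [hidx, hn, Nat.pow_minFac (by omega), Nat.Prime.minFac_eq hp]
      refine ⟨hQS, fun R hR φ hφ x => ?_⟩
      obtain ⟨_, g, hg, hφg⟩ := (hmem R φ).1 hφ
      rw [hφg]
      have h3 := hnorm.conj_mem ⟨(x : Ω), hQS (hR x.2)⟩
        (Subgroup.mem_subgroupOf.2 (hR x.2)) ⟨g, hg⟩
      exact Subgroup.mem_subgroupOf.1 h3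
    · rw [inf_bot_eq]; exact WkA.sc_bot' F
  · intro H hH hHc N hN P
    have hHS : H ≤ S := hH.1
    ext φ
    rw [hN P]
    constructor
    · rintro ⟨hφ, hPN, hφN, ψ, hψ, hψφ, hψH⟩
      obtain ⟨_, g, hg, hψg⟩ := (hmem _ ψ).1 hψ
      have hgN : g ∈ Subgroup.normalizer (H : Set Ω) := by
        rw [Subgroup.mem_normalizer_iff]
        intro h
        constructor
        · intro hh
          have h1 : g * h * g⁻¹ = ψ ⟨h, Subgroup.mem_sup_right hh⟩ :=
            (hψg ⟨h, Subgroup.mem_sup_right hh⟩).symm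
          have h2 : ψ ⟨h, Subgroup.mem_sup_right hh⟩ ∈ (H.subgroupOf (P ⊔ H)).map ψ :=
            Subgroup.mem_map_of_mem _ (Subgroup.mem_subgroupOf.2 hh)
          rw [hψH] at h2
          rw [h1]; exact h2
        · intro hh
          have hh' : g * h * g⁻¹ ∈ (H.subgroupOf (P ⊔ H)).map ψ := by
            rw [hψH]; exact hh
          obtain ⟨y, hy, hyh⟩ := hh'
          rw [hψg y] at hyh
          have h1 : (y : Ω) = h := mul_left_cancel (mul_right_cancel hyh)
          rw [← h1]; exact Subgroup.mem_subgroupOf.1 hy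
      refine ⟨hPN, g, Subgroup.mem_inf.2 ⟨hg, hgN⟩, fun x => ?_⟩
      rw [← hψφ x, hψg]
      rfl
    · rintro ⟨hPN, g, hg, hφg⟩
      have hPS : P ≤ S := hPN.trans inf_le_left
      have hgS : g ∈ S := (Subgroup.mem_inf.1 hg).1
      have hgN : g ∈ Subgroup.normalizer (H : Set Ω) := (Subgroup.mem_inf.1 hg).2
      rw [Subgroup.mem_normalizer_iff] at hgN
      refine ⟨(hmem P φ).2 ⟨hPS, g, hgS, hφg⟩, hPN, fun x => ?_, conjHom (P ⊔ H) g,
        F.conj_mem (sup_le hPS hHS) hgS, fun x => ?_, ?_⟩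
      · rw [hφg]
        exact Subgroup.mul_mem _ (Subgroup.mul_mem _ hg (hPN x.2)) (Subgroup.inv_mem _ hg)
      · rw [hφg]; rfl
      · ext y
        constructor
        · rintro ⟨z, hz, rfl⟩
          exact (hgN _).1 (Subgroup.mem_subgroupOf.1 hz)
        · intro hy
          have hz : g⁻¹ * y * g ∈ H := by
            rw [hgN]
            have h1 : g * (g⁻¹ * y * g) * g⁻¹ = y := by group
            rw [h1]; exact hy
          refine ⟨⟨g⁻¹ * y * g, Subgroup.mem_sup_right hz⟩, Subgroup.mem_subgroupOf.2 hz, ?_⟩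
          show g * (g⁻¹ * y * g) * g⁻¹ = y
          group

end Cfsg.Agent.Helper33.WkI
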