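import Cfsg.Agent.Helper85.WkDefs

/-! helper33 library: piece P of helper85's CALL S5271 -/

set_option autoImplicit false

namespace Cfsg.Agent.Helper33.WkP

open Cfsg Cfsg.FusionSystem Cfsg.Agent.Helper85

variable {Ω : Type*} [Group Ω] {S : Subgroup Ω}

/-- PIECE P (arithmetic) -/
theorem wk_card_mul_le [Finite S] {p : ℕ} [Fact p.Prime] (hS : IsPGroup p S) {D : Subgroup Ω}
    (hD : D < S) : Nat.card ↥D * p ≤ Nat.card ↥S := by
  have hp : p.Prime := Fact.out
  have hfinD : Finite ↥D := Finite.of_injective _ (Subgroup.inclusion_injective hD.le)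
  obtain ⟨a, ha⟩ := (hS.to_le hD.le).exists_card_eq
  obtain ⟨b, hb⟩ := hS.exists_card_eq
  have hdvd : Nat.card ↥D ∣ Nat.card ↥S := Subgroup.card_dvd_of_le hD.le
  have hne : Nat.card ↥D ≠ Nat.card ↥S := by
    intro h
    exact hD.ne (Subgroup.eq_of_le_of_card_ge hD.le h.ge)
  rw [ha, hb] at hdvd hne ⊢
  have hab : a ≤ b := (Nat.pow_dvd_pow_iff_le_right hp.one_lt).1 hdvd
  have hab' : a < b := lt_of_le_of_ne hab (fun h => hne (by rw [h]))
  calc p ^ a * p = p ^ (a + 1) := (pow_succ p a).symm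
    _ ≤ p ^ b := Nat.pow_le_pow_right hp.pos hab'

end Cfsg.Agent.Helper33.WkP
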